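import Mathlib

/-!
Overgroups of a subgroup narrowed down by congruences on the numbers of Sylow subgroups.
-/

set_option autoImplicit false

namespace Cfsg.Lib.J4Maximal

open Subgroup

/-- The product of a factorised number. -/
def prodPow : List (ℕ × ℕ) → ℕ
  | [] => 1
  | (p, k) :: l => p ^ k * prodPow l

/-- The divisors of a factorised number. -/
def divList : List (ℕ × ℕ) → List ℕ
  | [] => [1]
  | (p, k) :: l => (List.range (k + 1)).flatMap fun i => (divList l).map fun d => p ^ i * d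

theorem mem_divList : ∀ {l : List (ℕ × ℕ)}, (∀ x ∈ l, x.1.Prime) → ∀ {d : ℕ}, d ∣ prodPow l → d ∈ divList l
  | [], _, d, hd => by simp [divList, Nat.dvd_one.mp hd]
  | (p, k) :: l, hl, d, hd => by
    obtain ⟨a, b, ha, hb, rfl⟩ := Nat.dvd_mul.mp hd
    obtain ⟨i, hi, rfl⟩ := (Nat.dvd_prime_pow (hl _ List.mem_cons_self)).mp ha
    simp only [divList, List.mem_flatMap, List.mem_range, List.mem_map]
    exact ⟨i, Nat.lt_succ_of_le hi, b, mem_divList (fun x hx => hl x (List.mem_cons_of_mem _ hx)) hb, rfl⟩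

/-- What a Sylow congruence says about the order `d` of a subgroup: if `part` divides `d` then some `e` that divides
`prodPow nf`, is a multiple of `part` and `low` and differs from `bad`, leaves `d / e` congruent to 1 modulo `m`. -/
structure Row where
  part : ℕ
  nf : List (ℕ × ℕ)
  low : ℕ
  bad : ℕ
  m : ℕ

/-- The test of a row. -/
def Row.ok (r : Row) (d : ℕ) : Bool :=
  d % r.part != 0 || (divList r.nf).any fun e =>
    e % r.part == 0 && e % r.low == 0 && e != r.bad && d % e == 0 && (d / e) % r.m == 1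

/-- A row holds for a subgroup order. -/
def Row.Sound (r : Row) (d : ℕ) : Prop :=
  r.part ∣ d → ∃ e, e ∣ prodPow r.nf ∧ r.part ∣ e ∧ r.low ∣ e ∧ e ≠ r.bad ∧ e ∣ d ∧ (d / e) % r.m = 1

theorem Row.ok_of_sound {r : Row} {d : ℕ} (hp : ∀ x ∈ r.nf, x.1.Prime) (h : r.Sound d) : r.ok d = true := by
  by_cases hd : r.part ∣ d
  · obtain ⟨e, h1, h2, h3, h4, h5, h6⟩ := h hd
    simp only [Row.ok, Bool.or_eq_true, List.any_eq_true]
    exact Or.inr ⟨e, mem_divList hp h1, by simp [Nat.dvd_iff_mod_eq_zero.mp h2, Nat.dvd_iff_mod_eq_zero.mp h3, h4,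
      Nat.dvd_iff_mod_eq_zero.mp h5, h6]⟩
  · simp [Row.ok, Nat.dvd_iff_mod_eq_zero.not.mp hd]

/-- The possible indices left by a list of rows. -/
def survivors (base : ℕ) (fk : List (ℕ × ℕ)) (rows : List Row) : List ℕ :=
  (divList fk).filter fun k => rows.all fun r => r.ok (base * k)

variable {G : Type*} [Group G] [Finite G]

theorem exists_index {H M : Subgroup G} (hle : H ≤ M) {base : ℕ} (hb : Nat.card H = base) {fk : List (ℕ × ℕ)}
    (hfk : ∀ x ∈ fk, x.1.Prime) (hG : Nat.card G = base * prodPow fk) {rows : List Row}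
    (hr : ∀ r ∈ rows, (∀ x ∈ r.nf, x.1.Prime) ∧ r.Sound (Nat.card M)) :
    ∃ k ∈ survivors base fk rows, Nat.card M = base * k := by
  obtain ⟨k, hk⟩ := hb ▸ card_dvd_of_le hle
  have hbp : 0 < base := hb ▸ Nat.card_pos
  refine ⟨k, List.mem_filter.mpr ⟨mem_divList hfk ?_, List.all_eq_true.mpr fun r hmem => ?_⟩, hk⟩
  · have h := card_subgroup_dvd_card M
    rw [hk, hG] at h
    exact Nat.dvd_of_mul_dvd_mul_left hbp h
  · rw [← hk]
    exact Row.ok_of_sound (hr r hmem).1 (hr r hmem).2

theorem eq_of_index_one {H M : Subgroup G} (hle : H ≤ M) {base : ℕ} (hb : Nat.card H = base)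
    (h : Nat.card M = base * 1) : M = H :=
  (eq_of_le_of_card_ge hle (by rw [h, hb, Nat.mul_one])).symm

theorem sylow_count {q : ℕ} [Fact q.Prime] (M : Subgroup G) (U : Sylow q G) (hU : (U : Subgroup G) ≤ M) :
    Nat.card (Sylow q M) = Nat.card M / Nat.card ↥(M ⊓ normalizer ((U : Subgroup G) : Set G)) := by
  rw [Sylow.card_eq_index_normalizer (U.subtype hU)]
  have hN : normalizer (((U.subtype hU : Sylow q M) : Subgroup M) : Set M) =
      (normalizer ((U : Subgroup G) : Set G)).subgroupOf M := by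
    rw [Sylow.coe_subtype, ← subgroupOf_normalizer_eq hU]
  refine (congrArg Subgroup.index hN).trans ?_
  rw [← inf_subgroupOf_left (normalizer _) M]
  set K := M ⊓ normalizer ((U : Subgroup G) : Set G)
  refine (Nat.div_eq_of_eq_mul_right Nat.card_pos ?_).symm
  rw [← (K.subgroupOf M).card_mul_index, Nat.card_congr (subgroupOfEquivOfLe inf_le_left).toEquiv]

/-- The row of a Sylow subgroup contained in the subgroup. -/
theorem sound_of_sylow {q : ℕ} [Fact q.Prime] {M : Subgroup G} (U : Sylow q G) (hU : (U : Subgroup G) ≤ M)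
    {r : Row} (hpart : Nat.card (U : Subgroup G) = r.part)
    (hN : Nat.card ↥(normalizer ((U : Subgroup G) : Set G)) = prodPow r.nf)
    (hlow : r.low ∣ Nat.card ↥(M ⊓ normalizer ((U : Subgroup G) : Set G)))
    (hbad : Nat.card ↥(M ⊓ normalizer ((U : Subgroup G) : Set G)) ≠ r.bad)
    (hm : Nat.card (Sylow q M) % r.m = 1) : r.Sound (Nat.card M) := fun _ =>
  ⟨_, hN ▸ card_dvd_of_le inf_le_right, hpart ▸ card_dvd_of_le (le_inf hU le_normalizer), hlow, hbad,
    card_dvd_of_le inf_le_left, by rw [← sylow_count M U hU]; exact hm⟩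

theorem mod_q {q : ℕ} [hq : Fact q.Prime] (M : Subgroup G) : Nat.card (Sylow q M) % q = 1 := by
  have h := card_sylow_modEq_one q M
  rw [Nat.ModEq, Nat.mod_eq_of_lt hq.out.one_lt] at h
  exact h

theorem exists_sylow_le {q : ℕ} [Fact q.Prime] {M : Subgroup G} {part : ℕ} (hp : q ^ (Nat.card G).factorization q = part)
    (hd : part ∣ Nat.card M) : ∃ U : Sylow q G, (U : Subgroup G) ≤ M := by
  obtain ⟨P, hP⟩ := Sylow.exists_subgroup_card_pow_prime q (G := M) (n := (Nat.card G).factorization q) (hp ▸ hd)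
  refine ⟨Sylow.ofCard (P.map M.subtype) ?_, ?_⟩
  · rw [card_map_of_injective M.subtype_injective, hP]
  · rw [Sylow.coe_ofCard]
    exact map_subtype_le P

/-- The row of a prime whose Sylow normalisers all have the same order. -/
theorem sound_all {q : ℕ} [Fact q.Prime] {M : Subgroup G} {r : Row}
    (hp : q ^ (Nat.card G).factorization q = r.part)
    (hN : ∀ U : Sylow q G, Nat.card ↥(normalizer ((U : Subgroup G) : Set G)) = prodPow r.nf)
    (hlow : r.low = 1)
    (hbad : ∀ U : Sylow q G, (U : Subgroup G) ≤ M → Nat.card ↥(M ⊓ normalizer ((U : Subgroup G) : Set G)) ≠ r.bad)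
    (hm : r.part ∣ Nat.card M → Nat.card (Sylow q M) % r.m = 1) : r.Sound (Nat.card M) := fun hd => by
  obtain ⟨U, hU⟩ := exists_sylow_le hp hd
  exact sound_of_sylow U hU (by rw [U.card_eq_multiplicity, hp]) (hN U) (hlow ▸ one_dvd _) (hbad U hU) (hm hd) hd

theorem inf_norm_pos (M : Subgroup G) {q : ℕ} (U : Sylow q G) :
    Nat.card ↥(M ⊓ normalizer ((U : Subgroup G) : Set G)) ≠ 0 := Nat.card_pos.ne'

omit [Finite G] in
/-- The order of the normaliser inside a subgroup is a lower bound. -/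
theorem low_of_le {H M : Subgroup G} (hle : H ≤ M) {q : ℕ} (U : Sylow q G) :
    Nat.card ↥(H ⊓ normalizer ((U : Subgroup G) : Set G)) ∣ Nat.card ↥(M ⊓ normalizer ((U : Subgroup G) : Set G)) :=
  card_dvd_of_le (inf_le_inf_right _ hle)

/-- Inside a subgroup of known order the congruence can force the order of the normaliser. -/
theorem inf_norm_forced {H : Subgroup G} {base : ℕ} (hb : Nat.card H = base) {q : ℕ} [Fact q.Prime] (U : Sylow q G)
    (hU : (U : Subgroup G) ≤ H) {nf : List (ℕ × ℕ)} (hnf : ∀ x ∈ nf, x.1.Prime)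
    (hN : Nat.card ↥(normalizer ((U : Subgroup G) : Set G)) = prodPow nf) {part v : ℕ}
    (hpart : Nat.card (U : Subgroup G) = part)
    (hc : ((divList nf).filter fun e => e % part == 0 && base % e == 0 && (base / e) % q == 1) = [v]) :
    Nat.card ↥(H ⊓ normalizer ((U : Subgroup G) : Set G)) = v := by
  have h : Nat.card ↥(H ⊓ normalizer ((U : Subgroup G) : Set G)) ∈
      (divList nf).filter fun e => e % part == 0 && base % e == 0 && (base / e) % q == 1 := by
    refine List.mem_filter.mpr ⟨mem_divList hnf (hN ▸ card_dvd_of_le inf_le_right), ?_⟩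
    have h1 := Nat.dvd_iff_mod_eq_zero.mp (hpart ▸ card_dvd_of_le (le_inf hU (le_normalizer (H := (U : Subgroup G)))))
    have h2 := Nat.dvd_iff_mod_eq_zero.mp (hb ▸ card_dvd_of_le (inf_le_left :
      H ⊓ normalizer ((U : Subgroup G) : Set G) ≤ H))
    have h3 : base / Nat.card ↥(H ⊓ normalizer ((U : Subgroup G) : Set G)) % q = 1 := by
      rw [← hb, ← sylow_count H U hU]; exact mod_q H
    simp only [Bool.and_eq_true, beq_iff_eq]
    exact ⟨⟨h1, h2⟩, h3⟩
  rw [hc] at h
  exact List.mem_singleton.mp h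

omit [Finite G] in
theorem card_sup_normal {K V : Subgroup G} (hK : K ≤ normalizer (V : Set G)) (hd : K ⊓ V = ⊥) :
    Nat.card ↥(K ⊔ V) = Nat.card K * Nat.card V := by
  rw [← Nat.card_prod]
  refine (Nat.card_congr (Equiv.ofBijective (fun p : K × V => (⟨(p.1 : G) * p.2,
    mul_mem (mem_sup_left p.1.2) (mem_sup_right p.2.2)⟩ : ↥(K ⊔ V))) ⟨?_, ?_⟩)).symm
  · intro a b h
    exact Subgroup.mul_injective_of_disjoint (disjoint_iff.mpr hd) (congrArg Subtype.val h)
  · rintro ⟨x, hx⟩
    rw [← SetLike.mem_coe, coe_mul_of_left_le_normalizer_right K V hK] at hx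
    obtain ⟨k, hk, v, hv, rfl⟩ := Set.mem_mul.mp hx
    exact ⟨(⟨k, hk⟩, ⟨v, hv⟩), rfl⟩

end Cfsg.Lib.J4Maximal
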