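import Cfsg.Agent.J4Maximal.Base
import Cfsg.Agent.Golay.M24
import Cfsg.Agent.S5567

/-!
The normaliser of an elementary abelian subgroup of order `2^11` is a maximal subgroup.
-/

set_option autoImplicit false
set_option linter.style.haveILetI false

namespace Cfsg.Lib.J4Maximal

open Subgroup

/-- The cofactor of the subgroup `2^11:M24`. -/
def fkTodd : List (ℕ × ℕ) := [(11, 2), (29, 1), (31, 1), (37, 1), (43, 1)]

theorem todd_survivors :
    survivors 501397585920 fkTodd [r43 0, r29, r31 1, r23 253] = [1, 173067389] := by decide +kernel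

variable {G : Type*} [Group G] [Finite G]

theorem coatom_todd [IsSimpleGroup G] (hG : ¬ IsMulCommutative G) {z : G}
    (hz : Cfsg.IsOfJankoFourTypeAt z) (V : Subgroup G) (hV : Cfsg.IsElementaryAbelian 2 V)
    (hVc : Nat.card V = 2 ^ 11) : IsCoatom (normalizer (V : Set G)) := by
  classical
  obtain ⟨-, K, hKN, hKV, hsup, ⟨e⟩⟩ := Cfsg.Agent.S5567.result hG ⟨z, hz⟩ V hV hVc
  set N := normalizer (V : Set G) with hN
  have hcard := card_G hG ⟨z, hz⟩
  have hNc : Nat.card N = 501397585920 := by
    rw [← hsup, card_sup_normal hKN hKV, hVc, Nat.card_congr e.toEquiv, Cfsg.Lib.Golay.card_M24]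
    norm_num
  refine ⟨fun h => ?_, fun M hM => ?_⟩
  · rw [h, card_top, hcard] at hNc
    exact absurd hNc (by decide)
  haveI : Fact (Nat.Prime 23) := ⟨by norm_num⟩
  obtain ⟨U, hU⟩ := exists_sylow_le (q := 23) (M := N)
    ((part_eq hG ⟨z, hz⟩ (n := 1) (by norm_num) (by decide +kernel) (by decide +kernel)).trans (pow_one _))
    (by rw [hNc]; norm_num)
  have hUc := (sylow_card hG ⟨z, hz⟩ (n := 1) (by decide +kernel) (by decide +kernel) U).trans (pow_one _)
  have hlow := inf_norm_forced hNc U hU (nf := (r23 1).nf) (by simp [r23]; norm_num) ((norm_big hG hz).1 U) hUc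
    (v := 253) (by decide +kernel)
  have s23 : (r23 253).Sound (Nat.card M) :=
    sound_of_sylow (q := 23) U (hU.trans hM.le) hUc ((norm_big hG hz).1 U)
      ((dvd_of_eq hlow.symm).trans (low_of_le hM.le U)) (inf_norm_pos M U) (mod_q M)
  obtain ⟨k, hk, hMk⟩ := exists_index hM.le hNc (fk := fkTodd) (by simp [fkTodd]; norm_num)
    (by rw [hcard]; decide +kernel) (rows := [r43 0, r29, r31 1, r23 253]) (by
      intro r hr
      simp only [List.mem_cons, List.not_mem_nil, or_false] at hr
      rcases hr with rfl | rfl | rfl | rfl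
      exacts [⟨by simp [r43]; norm_num, sound_43 hG hz M⟩, ⟨by simp [r29]; norm_num, sound_29 hG hz M⟩,
        ⟨by simp [r31]; norm_num, sound_31 hG hz M⟩, ⟨by simp [r23]; norm_num, s23⟩])
  rw [todd_survivors] at hk
  simp only [List.mem_cons, List.not_mem_nil, or_false] at hk
  rcases hk with rfl | rfl
  · exact absurd (eq_of_index_one hM.le hNc hMk) hM.ne'
  · exact eq_top_of_card_eq M (by rw [hMk, hcard]; decide +kernel)

end Cfsg.Lib.J4Maximal
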