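import Cfsg.Agent.J4Maximal.Arith
import Cfsg.Agent.JankoFour.Unique.Main
import Cfsg.Agent.J4Cert.Order
import Cfsg.Agent.JankoFour.BigPrimes.General
import Cfsg.Agent.S5572
import Cfsg.Agent.S5573
import Cfsg.Agent.S5575
import Cfsg.Agent.S5577

/-!
Orders of the Sylow normalisers of a group of Janko-four type, as rows of the overgroup test.
-/

set_option autoImplicit false
set_option linter.style.haveILetI false

namespace Cfsg.Lib.J4Maximal

open Subgroup

/-- The row of the prime 5 with a lower bound. -/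
def r5 (low : ℕ) : Row := ⟨5, [(2, 8), (3, 1), (5, 1), (7, 1)], low, 0, 5⟩
/-- The row of the prime 7 with a lower bound. -/
def r7 (low : ℕ) : Row := ⟨7, [(2, 3), (3, 2), (5, 1), (7, 1)], low, 0, 7⟩
/-- The row of the prime 11. -/
def r11 : Row := ⟨1331, [(2, 4), (3, 1), (5, 1), (11, 3)], 1, 0, 121⟩
/-- The row of the prime 23 with a lower bound. -/
def r23 (low : ℕ) : Row := ⟨23, [(2, 1), (11, 1), (23, 1)], low, 0, 23⟩
/-- The row of the prime 29. -/
def r29 : Row := ⟨29, [(2, 2), (7, 1), (29, 1)], 1, 0, 29⟩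
/-- The row of the prime 31 with a lower bound. -/
def r31 (low : ℕ) : Row := ⟨31, [(2, 1), (5, 1), (31, 1)], low, 0, 31⟩
/-- The row of the prime 37. -/
def r37 : Row := ⟨37, [(2, 2), (3, 1), (37, 1)], 1, 0, 37⟩
/-- The row of the prime 43, excluding one order of the normaliser. -/
def r43 (bad : ℕ) : Row := ⟨43, [(2, 1), (7, 1), (43, 1)], 1, bad, 43⟩

/-- The order of the fourth Janko group. -/
def ordJ : ℕ := 86775571046077562880

variable {G : Type*} [Group G] [Finite G]

theorem norm_card_eq {q : ℕ} [Fact q.Prime] (U V : Sylow q G) :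
    Nat.card ↥(normalizer ((U : Subgroup G) : Set G)) = Nat.card ↥(normalizer ((V : Subgroup G) : Set G)) := by
  have h1 := (normalizer ((U : Subgroup G) : Set G)).card_mul_index
  have h2 := (normalizer ((V : Subgroup G) : Set G)).card_mul_index
  have e : (normalizer ((U : Subgroup G) : Set G)).index = (normalizer ((V : Subgroup G) : Set G)).index :=
    (Sylow.card_eq_index_normalizer U).symm.trans (Sylow.card_eq_index_normalizer V)
  rw [e, ← h2] at h1
  exact Nat.eq_of_mul_eq_mul_right (Nat.pos_of_ne_zero index_ne_zero_of_finite) h1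

section Simple

variable [IsSimpleGroup G] (hG : ¬ IsMulCommutative G)
include hG

theorem card_G (hJ : Cfsg.IsOfJankoFourType G) : Nat.card G = ordJ :=
  (Nat.card_congr (Cfsg.Lib.JankoFour.Unique.iso_J4 hG hJ).some.toEquiv).trans Cfsg.Lib.J4Cert.card_J4.1

theorem part_eq (hJ : Cfsg.IsOfJankoFourType G) {q n : ℕ} (hq : q.Prime) (h1 : q ^ n ∣ ordJ)
    (h2 : ¬ q ^ (n + 1) ∣ ordJ) : q ^ (Nat.card G).factorization q = q ^ n := by
  rw [card_G hG hJ]
  congr 1
  refine le_antisymm ?_ ((hq.pow_dvd_iff_le_factorization (by decide)).mp h1)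
  by_contra h
  exact h2 ((hq.pow_dvd_iff_le_factorization (by decide)).mpr (by omega))

theorem sylow_card (hJ : Cfsg.IsOfJankoFourType G) {q n : ℕ} [Fact q.Prime] (h1 : q ^ n ∣ ordJ)
    (h2 : ¬ q ^ (n + 1) ∣ ordJ) (U : Sylow q G) : Nat.card (U : Subgroup G) = q ^ n := by
  rw [U.card_eq_multiplicity, part_eq hG hJ Fact.out h1 h2]

theorem sylow_of_card (hJ : Cfsg.IsOfJankoFourType G) {q n : ℕ} [Fact q.Prime] (h1 : q ^ n ∣ ordJ)
    (h2 : ¬ q ^ (n + 1) ∣ ordJ) (Q : Subgroup G) (hQ : Nat.card Q = q ^ n) :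
    ∃ U : Sylow q G, (U : Subgroup G) = Q :=
  ⟨Sylow.ofCard Q (by rw [hQ, part_eq hG hJ Fact.out h1 h2]), Sylow.coe_ofCard _ _⟩

variable {z : G} (hz : Cfsg.IsOfJankoFourTypeAt z)
include hz

theorem norm_five [Fact (Nat.Prime 5)] (U : Sylow 5 G) :
    Nat.card ↥(normalizer ((U : Subgroup G) : Set G)) = prodPow (r5 1).nf := by
  obtain ⟨P, hP⟩ := id hz
  obtain ⟨C⟩ := Cfsg.Lib.JankoFour.exists_ctx hP
  obtain ⟨F⟩ := C.exists_five
  obtain ⟨V, hV⟩ := sylow_of_card hG ⟨z, hz⟩ (q := 5) (n := 1) (by decide +kernel) (by decide +kernel)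
    (zpowers F.s) (by rw [F.card_s, pow_one])
  rw [norm_card_eq U V, hV,
    (Cfsg.Agent.S5572.result hG z hz (zpowers F.s) F.card_s (zpowers_le.mpr F.sH)).2.2.2]
  decide

theorem norm_seven [Fact (Nat.Prime 7)] (U : Sylow 7 G) :
    Nat.card ↥(normalizer ((U : Subgroup G) : Set G)) = prodPow (r7 1).nf := by
  obtain ⟨P, hP⟩ := id hz
  obtain ⟨C⟩ := Cfsg.Lib.JankoFour.exists_ctx hP
  obtain ⟨s, hs, hso, -, -⟩ := C.exists_model_seven
  have hc : Nat.card (zpowers s) = 7 := by rw [Nat.card_zpowers, hso]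
  obtain ⟨V, hV⟩ := sylow_of_card hG ⟨z, hz⟩ (q := 7) (n := 1) (by decide +kernel) (by decide +kernel)
    (zpowers s) (by rw [hc, pow_one])
  rw [norm_card_eq U V, hV, (Cfsg.Agent.S5573.result hG z hz (zpowers s) hc (zpowers_le.mpr hs)).2.2.2]
  decide

theorem norm_eleven (U : Sylow 11 G) :
    Nat.card ↥(normalizer ((U : Subgroup G) : Set G)) = prodPow r11.nf := by
  rw [(Cfsg.Agent.S5575.result hG ⟨z, hz⟩ U).2.2.2.1]
  decide

theorem norm_big : (∀ U : Sylow 23 G, Nat.card ↥(normalizer ((U : Subgroup G) : Set G)) = prodPow (r23 1).nf) ∧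
    (∀ U : Sylow 29 G, Nat.card ↥(normalizer ((U : Subgroup G) : Set G)) = prodPow r29.nf) ∧
    (∀ U : Sylow 31 G, Nat.card ↥(normalizer ((U : Subgroup G) : Set G)) = prodPow (r31 1).nf) ∧
    (∀ U : Sylow 37 G, Nat.card ↥(normalizer ((U : Subgroup G) : Set G)) = prodPow r37.nf) ∧
    ∀ U : Sylow 43 G, Nat.card ↥(normalizer ((U : Subgroup G) : Set G)) = prodPow (r43 0).nf := by
  obtain ⟨h23, h29, h31, h37, h43⟩ := Cfsg.Agent.S5577.result hG ⟨z, hz⟩
  exact ⟨fun U => (h23 U).2.trans (by decide), fun U => (h29 U).2.trans (by decide),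
    fun U => (h31 U).2.trans (by decide), fun U => (h37 U).2.trans (by decide),
    fun U => (h43 U).2.trans (by decide)⟩

theorem sound_23 (M : Subgroup G) : (r23 1).Sound (Nat.card M) := by
  haveI : Fact (Nat.Prime 23) := ⟨by norm_num⟩
  exact sound_all (q := 23) ((part_eq hG ⟨z, hz⟩ (q := 23) (n := 1) (by norm_num) (by decide +kernel) (by decide +kernel)).trans (pow_one _))
    (norm_big hG hz).1 rfl (fun U _ => inf_norm_pos M U) fun _ => mod_q M

theorem sound_29 (M : Subgroup G) : r29.Sound (Nat.card M) := by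
  haveI : Fact (Nat.Prime 29) := ⟨by norm_num⟩
  exact sound_all (q := 29) ((part_eq hG ⟨z, hz⟩ (q := 29) (n := 1) (by norm_num) (by decide +kernel) (by decide +kernel)).trans (pow_one _))
    (norm_big hG hz).2.1 rfl (fun U _ => inf_norm_pos M U) fun _ => mod_q M

theorem sound_31 (M : Subgroup G) : (r31 1).Sound (Nat.card M) := by
  haveI : Fact (Nat.Prime 31) := ⟨by norm_num⟩
  exact sound_all (q := 31) ((part_eq hG ⟨z, hz⟩ (q := 31) (n := 1) (by norm_num) (by decide +kernel) (by decide +kernel)).trans (pow_one _))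
    (norm_big hG hz).2.2.1 rfl (fun U _ => inf_norm_pos M U) fun _ => mod_q M

theorem sound_37 (M : Subgroup G) : r37.Sound (Nat.card M) := by
  haveI : Fact (Nat.Prime 37) := ⟨by norm_num⟩
  exact sound_all (q := 37) ((part_eq hG ⟨z, hz⟩ (q := 37) (n := 1) (by norm_num) (by decide +kernel) (by decide +kernel)).trans (pow_one _))
    (norm_big hG hz).2.2.2.1 rfl (fun U _ => inf_norm_pos M U) fun _ => mod_q M

theorem sound_43 (M : Subgroup G) : (r43 0).Sound (Nat.card M) := by
  haveI : Fact (Nat.Prime 43) := ⟨by norm_num⟩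
  exact sound_all (q := 43) ((part_eq hG ⟨z, hz⟩ (q := 43) (n := 1) (by norm_num) (by decide +kernel) (by decide +kernel)).trans (pow_one _))
    (norm_big hG hz).2.2.2.2 rfl (fun U _ => inf_norm_pos M U) fun _ => mod_q M

theorem sound_11 (M : Subgroup G)
    (h121 : 11 ^ 3 ∣ Nat.card M → Nat.card (Sylow 11 M) % 121 = 1) : r11.Sound (Nat.card M) := by
  haveI : Fact (Nat.Prime 11) := ⟨by norm_num⟩
  exact sound_all (q := 11) ((part_eq hG ⟨z, hz⟩ (q := 11) (n := 3) (by norm_num) (by decide +kernel) (by decide +kernel)).trans (by decide))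
    (norm_eleven hG hz) rfl (fun U _ => inf_norm_pos M U) fun h => h121 (by norm_num; exact h)

end Simple

end Cfsg.Lib.J4Maximal
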