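import Mathlib

/-!
Normal complements, invariant Sylow subgroups and fixed points of an automorphism of prime order.
-/

set_option autoImplicit false
set_option linter.style.haveILetI false

namespace Cfsg.Lib.J4Maximal

open Subgroup

variable {Γ : Type*} [Group Γ] [Finite Γ]

/-- Burnside's transfer theorem inside a subgroup. -/
theorem exists_complement_in {M Q : Subgroup Γ} {q n : ℕ} [Fact q.Prime] (hQM : Q ≤ M) (hQ : Nat.card Q = q ^ n)
    (hn : ¬ q ^ (n + 1) ∣ Nat.card M)
    (hnc : ∀ g ∈ M, g ∈ normalizer (Q : Set Γ) → g ∈ centralizer (Q : Set Γ)) :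
    ∃ K : Subgroup Γ, K ≤ M ∧ M ≤ normalizer (K : Set Γ) ∧ Nat.card K * q ^ n = Nat.card M ∧
      ∀ g ∈ M, (orderOf g).Coprime q → g ∈ K := by
  have hc : Nat.card (Q.subgroupOf M) = q ^ n := (Nat.card_congr (subgroupOfEquivOfLe hQM).toEquiv).trans hQ
  have hfac : (Nat.card M).factorization q = n := by
    refine le_antisymm ?_ ((Fact.out (p := q.Prime)).pow_dvd_iff_le_factorization Nat.card_pos.ne' |>.mp
      (hQ ▸ card_dvd_of_le hQM))
    by_contra h
    exact hn (((Fact.out (p := q.Prime)).pow_dvd_iff_le_factorization Nat.card_pos.ne').mpr (by omega))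
  obtain ⟨P, hPe⟩ : ∃ P : Sylow q M, (P : Subgroup M) = Q.subgroupOf M :=
    ⟨Sylow.ofCard (Q.subgroupOf M) (by rw [hc, hfac]), Sylow.coe_ofCard _ _⟩
  have hP : normalizer ((P : Subgroup M) : Set M) ≤ centralizer ((P : Subgroup M) : Set M) := by
    intro g hg
    rw [hPe, ← subgroupOf_normalizer_eq hQM, mem_subgroupOf] at hg
    have := hnc g g.2 hg
    rw [hPe, mem_centralizer_iff]
    intro y hy
    exact Subtype.ext (mem_centralizer_iff.mp this y hy)
  obtain ⟨K0, hn0, hcompl⟩ : ∃ K0 : Subgroup M, K0.Normal ∧ K0.IsComplement' (Q.subgroupOf M) :=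
    ⟨_, MonoidHom.normal_ker (MonoidHom.transferSylow P hP), hPe ▸ MonoidHom.ker_transferSylow_isComplement' P hP⟩
  haveI := hn0
  refine ⟨K0.map M.subtype, map_subtype_le _, fun g hg => ?_, ?_, fun g hg hco => ?_⟩
  · rw [mem_normalizer_iff]
    intro y
    constructor
    · rintro ⟨k, hk, rfl⟩
      exact ⟨⟨g, hg⟩ * k * ⟨g, hg⟩⁻¹, hn0.conj_mem k hk _, rfl⟩
    · rintro ⟨k, hk, hky⟩
      refine ⟨⟨g, hg⟩⁻¹ * k * ⟨g, hg⟩, by simpa using hn0.conj_mem k hk ⟨g, hg⟩⁻¹, ?_⟩
      show g⁻¹ * (k : Γ) * g = y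
      rw [show (k : Γ) = g * y * g⁻¹ from hky]
      group
  · rw [card_map_of_injective M.subtype_injective, ← hc]
    exact hcompl.card_mul_card
  · refine ⟨⟨g, hg⟩, ?_, rfl⟩
    have hidx : K0.index = q ^ n := by
      rw [← hc]
      exact Nat.eq_of_mul_eq_mul_left Nat.card_pos (K0.card_mul_index.trans hcompl.card_mul_card.symm)
    have h1 : orderOf (QuotientGroup.mk' K0 ⟨g, hg⟩) ∣ q ^ n := by
      rw [← hidx]
      exact orderOf_dvd_natCard _
    have h2 : orderOf (QuotientGroup.mk' K0 ⟨g, hg⟩) ∣ orderOf g := by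
      have := orderOf_map_dvd (QuotientGroup.mk' K0) ⟨g, hg⟩
      rwa [Subgroup.orderOf_mk] at this
    have h3 := Nat.dvd_gcd h2 h1
    rw [Nat.Coprime.pow_right n hco] at h3
    exact (QuotientGroup.eq_one_iff _).mp (orderOf_eq_one_iff.mp (Nat.dvd_one.mp h3))

/-- A Sylow subgroup of a subgroup invariant under an element of prime order not dividing its order. -/
theorem exists_invariant {K : Subgroup Γ} {w : Γ} {p q : ℕ} [Fact p.Prime] [Fact q.Prime] (hw : orderOf w = p)
    (hwK : w ∈ normalizer (K : Set Γ)) (hpK : ¬ p ∣ Nat.card K) :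
    ∃ P : Subgroup Γ, P ≤ K ∧ Nat.card P = q ^ (Nat.card K).factorization q ∧ w ∈ normalizer (P : Set Γ) := by
  classical
  let X := {P : Subgroup Γ // P ≤ K ∧ Nat.card P = q ^ (Nat.card K).factorization q}
  let e : Sylow q K ≃ X :=
    { toFun := fun P => ⟨(P : Subgroup K).map K.subtype, map_subtype_le _, by
        rw [card_map_of_injective K.subtype_injective, P.card_eq_multiplicity]⟩
      invFun := fun P => Sylow.ofCard (P.1.subgroupOf K) (by
        rw [Nat.card_congr (subgroupOfEquivOfLe P.2.1).toEquiv, P.2.2])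
      left_inv := fun P => Sylow.ext (by
        rw [Sylow.coe_ofCard, subgroupOf, comap_map_eq_self_of_injective K.subtype_injective])
      right_inv := fun P => Subtype.ext (by
        show ((Sylow.ofCard (P.1.subgroupOf K) _ : Sylow q K) : Subgroup K).map K.subtype = P.1
        rw [Sylow.coe_ofCard, subgroupOf_map_subtype, inf_eq_left.mpr P.2.1]) }
  have hmem : ∀ g ∈ zpowers w, g ∈ normalizer (K : Set Γ) := fun g hg => zpowers_le.mpr hwK hg
  let cj : Γ → Subgroup Γ → Subgroup Γ := fun g P => P.map (MulAut.conj g).toMonoidHom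
  have hcj : ∀ g ∈ zpowers w, ∀ P : X, cj g P.1 ≤ K ∧ Nat.card (cj g P.1) = q ^ (Nat.card K).factorization q := by
    intro g hg P
    refine ⟨?_, (card_map_of_injective (MulAut.conj g).injective).trans P.2.2⟩
    rintro _ ⟨y, hy, rfl⟩
    exact (mem_normalizer_iff.mp (hmem g hg) y).mp (P.2.1 hy)
  letI act : MulAction (zpowers w) X :=
    { smul := fun g P => ⟨cj g P.1, hcj g g.2 P⟩
      one_smul := fun P => Subtype.ext (by
        show P.1.map (MulAut.conj (1 : Γ)).toMonoidHom = P.1
        ext y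
        simp)
      mul_smul := fun g h P => Subtype.ext (by
        show P.1.map (MulAut.conj ((g : Γ) * h)).toMonoidHom = (P.1.map _).map _
        rw [map_map]
        congr 1
        ext y
        simp) }
  have hp : IsPGroup p (zpowers w) := IsPGroup.of_card (n := 1) (by rw [Nat.card_zpowers, hw, pow_one])
  have hX : ¬ p ∣ Nat.card X := fun h => hpK (by
    rw [← Nat.card_congr e, Sylow.card_eq_index_normalizer (default : Sylow q K)] at h
    exact h.trans (Subgroup.index_dvd_card _))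
  obtain ⟨⟨P, hPK, hPc⟩, hfix⟩ := hp.nonempty_fixed_point_of_prime_not_dvd_card X hX
  refine ⟨P, hPK, hPc, mem_normalizer_iff.mpr fun y => ?_⟩
  have h : P.map (MulAut.conj w).toMonoidHom = P := congrArg Subtype.val (hfix ⟨w, mem_zpowers w⟩)
  constructor
  · intro hy
    rw [← h]
    exact ⟨y, hy, rfl⟩
  · intro hy
    rw [← h] at hy
    obtain ⟨z, hz, e'⟩ := hy
    rwa [← (MulAut.conj w).injective e']

/-- The order of an invariant subgroup and of the fixed points agree modulo the prime. -/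
theorem card_modEq_fixed {P : Subgroup Γ} {w : Γ} {p : ℕ} [Fact p.Prime] (hw : orderOf w = p)
    (hwP : w ∈ normalizer (P : Set Γ)) :
    Nat.card P % p = Nat.card ↥(P ⊓ centralizer ({w} : Set Γ)) % p := by
  letI act : MulAction (zpowers w) P :=
    { smul := fun g y => ⟨(g : Γ) * y * (g : Γ)⁻¹, (mem_normalizer_iff.mp (zpowers_le.mpr hwP g.2) y).mp y.2⟩
      one_smul := fun y => Subtype.ext (show ((1 : zpowers w) : Γ) * y * ((1 : zpowers w) : Γ)⁻¹ = y by simp)
      mul_smul := fun g h y => Subtype.ext (show ((g * h : zpowers w) : Γ) * y * ((g * h : zpowers w) : Γ)⁻¹ =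
        (g : Γ) * ((h : Γ) * y * (h : Γ)⁻¹) * (g : Γ)⁻¹ by simp [mul_assoc]) }
  have hp : IsPGroup p (zpowers w) := IsPGroup.of_card (n := 1) (by rw [Nat.card_zpowers, hw, pow_one])
  have h := hp.card_modEq_card_fixedPoints P
  have e : Nat.card ↥(MulAction.fixedPoints (zpowers w) P) = Nat.card ↥(P ⊓ centralizer ({w} : Set Γ)) :=
    Nat.card_congr
      { toFun := fun y => ⟨y.1.1, y.1.2, by
          show (y.1.1 : Γ) ∈ centralizer ({w} : Set Γ)
          rw [mem_centralizer_singleton_iff]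
          exact (mul_inv_eq_iff_eq_mul.mp (congrArg Subtype.val (y.2 ⟨w, mem_zpowers w⟩))).symm⟩
        invFun := fun y => ⟨⟨y.1, y.2.1⟩, fun g => by
          obtain ⟨i, hi⟩ := mem_zpowers_iff.mp g.2
          refine Subtype.ext ?_
          show (g : Γ) * y.1 * (g : Γ)⁻¹ = y.1
          rw [← hi, mul_inv_eq_iff_eq_mul]
          exact ((show Commute w y.1 from (mem_centralizer_singleton_iff.mp y.2.2).symm).zpow_left i).eq⟩
        left_inv := fun _ => rfl
        right_inv := fun _ => rfl }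
  rw [e] at h
  exact h

omit [Finite Γ] in
/-- An element of order coprime to the automiser centralises. -/
theorem commute_of_congr {a g : Γ} {q e : ℕ} (hq : q.Prime) (ha : orderOf a = q) {k : ℕ}
    (hk : g * a * g⁻¹ = a ^ k) (he : k ^ e % q = 1) (hco : (orderOf g).Coprime e) : Commute g a := by
  have hpow : ∀ i : ℕ, g ^ i * a * (g ^ i)⁻¹ = a ^ k ^ i := by
    intro i
    induction i with
    | zero => simp
    | succ i ih =>
      rw [pow_succ' g, show g * g ^ i * a * (g * g ^ i)⁻¹ = g * (g ^ i * a * (g ^ i)⁻¹) * g⁻¹ by group, ih,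
        ← conj_pow, hk, ← pow_mul, pow_succ']
  have h1 : k ^ orderOf g % q = 1 := by
    have h := hpow (orderOf g)
    rw [pow_orderOf_eq_one, one_mul, inv_one, mul_one] at h
    have h' : a ^ k ^ orderOf g = a ^ 1 := by rw [pow_one, ← h]
    rw [pow_eq_pow_iff_modEq, ha] at h'
    exact Eq.trans h' (Nat.mod_eq_of_lt hq.one_lt)
  haveI := Fact.mk hq
  have h2 : (k : ZMod q) = 1 := by
    have ez : ∀ {n : ℕ}, n % q = 1 → (n : ZMod q) = 1 := fun {n} hn => by
      rw [← ZMod.natCast_mod, hn, Nat.cast_one]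
    have z1 := ez h1
    have z2 := ez he
    rw [Nat.cast_pow] at z1 z2
    have := pow_gcd_eq_one.mpr ⟨z1, z2⟩
    rwa [hco, pow_one] at this
  have h3 : k % q = 1 := by
    have := congrArg ZMod.val h2
    rwa [ZMod.val_natCast, ZMod.val_one] at this
  rw [Commute, SemiconjBy, ← mul_inv_eq_iff_eq_mul, hk]
  calc a ^ k = a ^ (k % q) := by rw [← ha, pow_mod_orderOf]
    _ = a := by rw [h3, pow_one]

end Cfsg.Lib.J4Maximal
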