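import Cfsg.Agent.J4Maximal.P37.Order121
import Cfsg.Agent.J4Maximal.Transfer
import Cfsg.Agent.J4Maximal.Base
import Cfsg.Agent.JankoFour.ClassNumber.Main

/-!
The number of Sylow 11-subgroups of a subgroup containing one is congruent to 1 modulo 121.
-/

set_option autoImplicit false
set_option maxRecDepth 8000
set_option synthInstance.maxSize 4000
set_option linter.style.haveILetI false

namespace Cfsg.Lib.J4Maximal

open Cfsg Subgroup Cfsg.Lib.J4Cert Cfsg.Lib.J4Eleven Cfsg.Lib.JankoFour.ClassNumber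

attribute [local irreducible] mB mPow J4Eleven.em mU mX mZ mG mEl trPar cm

theorem cent_eZ_le (F : Facts Spor.J4) (hN : Nat.card (normalizer (hJ4.U : Set Spor.J4)) = 319440) :
    centralizer ({eZ} : Set Spor.J4) ≤ normalizer (hJ4.U : Set Spor.J4) := by
  classical
  haveI := finite_J4
  set N := normalizer (hJ4.U : Set Spor.J4)
  have hzU : eZ ∈ hJ4.U := hJ4.z_mem
  have hNz : N ≤ normalizer (zpowers eZ : Set Spor.J4) := by
    intro g hg
    have hle : (zpowers eZ).map (MulAut.conj g).toMonoidHom ≤ zpowers eZ := by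
      rw [MonoidHom.map_zpowers, zpowers_le]
      exact P37.conj_central ((mem_normalizer_iff.mp hg eZ).mp hzU) (isConj_iff.mpr ⟨g, rfl⟩)
    have he := eq_of_le_of_card_ge hle
      (le_of_eq (card_map_of_injective (f := (MulAut.conj g).toMonoidHom) (MulAut.conj g).injective).symm)
    rw [mem_normalizer_iff]
    intro u
    refine ⟨fun hu => hle ⟨u, hu, rfl⟩, fun hu => ?_⟩
    rw [← he] at hu
    obtain ⟨t, ht, e⟩ := hu
    rwa [← (MulAut.conj g).injective e]
  let φ : ↥N →* MulAut ↥(zpowers eZ) := (zpowers eZ).normalizerMonoidHom.comp (Subgroup.inclusion hNz)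
  have hzo : orderOf eZ = 11 := two_classes.2.1
  have hr : Nat.card φ.range ≤ 10 := by
    have : Nat.card (MulAut ↥(zpowers eZ)) = 10 := by
      rw [IsCyclic.card_mulAut, Nat.card_zpowers, hzo]
      decide
    exact Nat.le_of_dvd (by norm_num) (this ▸ card_subgroup_dvd_card _)
  have hker : φ.ker.map N.subtype ≤ centralizer ({eZ} : Set Spor.J4) := by
    rintro _ ⟨g, hg, rfl⟩
    have : (⟨(g : Spor.J4), hNz g.2⟩ : ↥(normalizer (zpowers eZ : Set Spor.J4))) ∈ (zpowers eZ).normalizerMonoidHom.ker :=
      hg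
    rwa [(zpowers eZ).normalizerMonoidHom_ker, mem_subgroupOf, cent_zpowers] at this
  have hc : Nat.card (centralizer ({eZ} : Set Spor.J4)) ≤ 31944 := by
    rw [← (el_X pool).2]
    exact Nat.le_of_dvd (by norm_num) (cent_Z11 pool F)
  have hge : 31944 ≤ Nat.card φ.ker := by
    have h := φ.ker.card_mul_index
    rw [index_ker, hN] at h
    by_contra hlt
    push Not at hlt
    have : Nat.card φ.ker * Nat.card φ.range ≤ 31943 * 10 := Nat.mul_le_mul (by omega) hr
    omega
  have he := eq_of_le_of_card_ge hker (by rw [card_map_of_injective N.subtype_injective]; omega)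
  rw [← he]
  exact map_subtype_le _

/-- Two distinct Sylow 11-subgroups meet in at most 11 elements. -/
theorem sylow_inter (F : Facts Spor.J4) (hN : Nat.card (normalizer (hJ4.U : Set Spor.J4)) = 319440)
    (V W : Subgroup Spor.J4) (hV : Nat.card V = 1331) (hW : Nat.card W = 1331) (hne : V ≠ W) :
    Nat.card ↥(V ⊓ W) ∣ 11 := by
  classical
  haveI := finite_J4
  haveI f11 : Fact (Nat.Prime 11) := ⟨by norm_num⟩
  obtain ⟨j, hj, hjc⟩ := (Nat.dvd_prime_pow (by norm_num : Nat.Prime 11)).mp
    (show Nat.card ↥(V ⊓ W) ∣ 11 ^ 3 by rw [show 11 ^ 3 = 1331 by norm_num, ← hV]; exact card_dvd_of_le inf_le_left)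
  by_contra hbad
  have hj2 : j = 2 := by
    interval_cases j
    · exact absurd (hjc ▸ one_dvd 11) hbad
    · exact absurd (hjc ▸ dvd_of_eq (pow_one 11)) hbad
    · rfl
    · exfalso
      exact hne ((eq_of_le_of_card_ge inf_le_left (by rw [hjc, hV]; norm_num)).symm.trans
        (eq_of_le_of_card_ge inf_le_right (by rw [hjc, hW]; norm_num)))
  subst hj2
  obtain ⟨a, ha, hao, hac, han⟩ := P37.exists_char_eleven (P := V ⊓ W) (by rw [hjc]; norm_num)
  have hle : ∀ X : Subgroup Spor.J4, Nat.card X = 1331 → V ⊓ W ≤ X → X ≤ centralizer ({a} : Set Spor.J4) := by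
    intro X hX hI g hg
    have hp : IsPGroup 11 X := IsPGroup.of_card (n := 3) (by rw [hX]; norm_num)
    have hgn : g ∈ normalizer ((V ⊓ W : Subgroup Spor.J4) : Set Spor.J4) := by
      have hidx : ((V ⊓ W).subgroupOf X).index = 11 := by
        have h := ((V ⊓ W).subgroupOf X).card_mul_index
        rw [Nat.card_congr (subgroupOfEquivOfLe hI).toEquiv, hjc, hX] at h
        omega
      haveI : ((V ⊓ W).subgroupOf X).Normal := normal_of_index_eq_minFac_card (by
        rw [hidx, hX, show (1331 : ℕ) = 11 ^ 3 by norm_num, Nat.pow_minFac (by norm_num), Nat.Prime.minFac_eq (by norm_num)])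
      exact (normal_subgroupOf_iff_le_normalizer hI).mp inferInstance hg
    obtain ⟨k, hk⟩ := (isOfFinOrder_of_finite a).mem_powers_iff_mem_zpowers.mpr (han g hgn)
    rw [mem_centralizer_singleton_iff]
    have hgo : orderOf g ∣ 11 ^ 3 := by
      rw [show 11 ^ 3 = 1331 by norm_num, ← hX]
      have := orderOf_dvd_natCard (⟨g, hg⟩ : X)
      rwa [Subgroup.orderOf_mk] at this
    obtain ⟨i, -, hi⟩ := (Nat.dvd_prime_pow (by norm_num : Nat.Prime 11)).mp hgo
    refine (commute_of_congr (e := 10) (by norm_num) hao hk.symm ?_ (hi ▸ Nat.Coprime.pow_left i (by norm_num))).eq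
    have hk11 : k % 11 ≠ 0 := by
      intro h0
      have h1 : a ^ k = 1 := by rw [← pow_mod_orderOf, hao, h0, pow_zero]
      have h2 : g * a * g⁻¹ = 1 := by rw [show g * a * g⁻¹ = a ^ k from hk.symm, h1]
      rw [mul_inv_eq_one, mul_eq_left] at h2
      rw [h2, orderOf_one] at hao
      norm_num at hao
    have key : ∀ r < 11, r ≠ 0 → r ^ 10 % 11 = 1 := by decide
    rw [Nat.pow_mod]
    exact key _ (Nat.mod_lt _ (by norm_num)) hk11
  obtain ⟨g, hg⟩ := isConj_iff.mp hac.symm
  have hmap : ∀ X : Subgroup Spor.J4, Nat.card X = 1331 → V ⊓ W ≤ X →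
      X.map (MulAut.conj g).toMonoidHom = hJ4.U := by
    intro X hX hI
    have hXN : X.map (MulAut.conj g).toMonoidHom ≤ normalizer (hJ4.U : Set Spor.J4) := by
      refine le_trans ?_ (cent_eZ_le F hN)
      rintro _ ⟨y, hy, rfl⟩
      rw [mem_centralizer_singleton_iff, ← hg]
      exact congrArg (MulAut.conj g) (mem_centralizer_singleton_iff.mp (hle X hX hI hy)) |>.trans (map_mul _ _ _)
        |> fun h => (map_mul (MulAut.conj g) _ _).symm.trans h
    obtain ⟨S, hS⟩ := exists_sylow
    have hp : IsPGroup 11 ↥(X.map (MulAut.conj g).toMonoidHom) :=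
      IsPGroup.of_card (n := 3) (by rw [card_map_of_injective (MulAut.conj g).injective, hX]; norm_num)
    have h := hp.inf_normalizer_sylow S
    rw [hS] at h
    have hle' : X.map (MulAut.conj g).toMonoidHom ≤ normalizer ((S : Subgroup Spor.J4) : Set Spor.J4) := hS.symm ▸ hXN
    have h2 : X.map (MulAut.conj g).toMonoidHom = X.map (MulAut.conj g).toMonoidHom ⊓ hJ4.U :=
      (inf_eq_left.mpr hle').symm.trans h
    exact eq_of_le_of_card_ge (inf_eq_left.mp h2.symm)
      (by rw [hJ4.card_U, card_map_of_injective (MulAut.conj g).injective, hX])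
  exact hne (map_injective (MulAut.conj g).injective ((hmap V hV inf_le_left).trans (hmap W hW inf_le_right).symm))

variable {G : Type*} [Group G] [Finite G]

theorem eleven_count [IsSimpleGroup G] (hG : ¬ IsMulCommutative G) {z : G} (hz : Cfsg.IsOfJankoFourTypeAt z)
    (M : Subgroup G) (hM : 11 ^ 3 ∣ Nat.card M) : Nat.card (Sylow 11 M) % 121 = 1 := by
  classical
  haveI := finite_J4
  haveI f11 : Fact (Nat.Prime 11) := ⟨by norm_num⟩
  obtain ⟨e⟩ := Cfsg.Lib.JankoFour.Unique.iso_J4 hG ⟨z, hz⟩
  have F := (Cfsg.Lib.JankoFour.ClassNumber.facts_of hG ⟨z, hz⟩ e).map e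
  have hN := (normalizer_data (hcent_J4 hG ⟨z, hz⟩ e)).1
  have hcardS : ∀ V : Sylow 11 M, Nat.card ↥((V : Subgroup M).map M.subtype) = 1331 := by
    intro V
    rw [card_map_of_injective M.subtype_injective, V.card_eq_multiplicity,
      show (1331 : ℕ) = 11 ^ 3 by norm_num]
    congr 1
    refine le_antisymm ?_ ((Nat.Prime.pow_dvd_iff_le_factorization (by norm_num) Nat.card_pos.ne').mp hM)
    by_contra h
    have h4 := ((Nat.Prime.pow_dvd_iff_le_factorization (p := 11) (k := 4) (by norm_num) Nat.card_pos.ne').mpr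
      (by omega)).trans (card_subgroup_dvd_card M)
    rw [card_G hG ⟨z, hz⟩] at h4
    revert h4
    decide +kernel
  have hint : ∀ V W : Sylow 11 M, V ≠ W → Nat.card ↥((V : Subgroup M) ⊓ (W : Subgroup M)) ∣ 11 := by
    intro V W hne
    set V' := ((V : Subgroup M).map M.subtype).map e.toMonoidHom
    set W' := ((W : Subgroup M).map M.subtype).map e.toMonoidHom
    have hne' : V' ≠ W' := fun h => hne (Sylow.ext (map_injective M.subtype_injective (map_injective e.injective h)))
    have h := sylow_inter F hN V' W' (by rw [card_map_of_injective e.injective, hcardS])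
      (by rw [card_map_of_injective e.injective, hcardS]) hne'
    rwa [← map_inf _ _ _ e.injective, card_map_of_injective e.injective, ← map_inf _ _ _ M.subtype_injective,
      card_map_of_injective M.subtype_injective] at h
  obtain ⟨V⟩ := (inferInstance : Nonempty (Sylow 11 M))
  let X := {W : Sylow 11 M // W ≠ V}
  have hfix : ∀ v : ↥(V : Subgroup M), (v : M) • V = V := fun v =>
    Sylow.smul_eq_iff_mem_normalizer.mpr (le_normalizer v.2)
  letI act : MulAction ↥(V : Subgroup M) X :=
    { smul := fun v W => ⟨(v : M) • W.1, fun h => W.2 (by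
        rw [← inv_smul_smul (v : M) W.1, h]
        exact hfix ⟨(v : M)⁻¹, inv_mem v.2⟩)⟩
      one_smul := fun W => Subtype.ext (one_smul M W.1)
      mul_smul := fun v v' W => Subtype.ext (mul_smul (v : M) (v' : M) W.1) }
  have horb : ∀ W : X, 121 ∣ (MulAction.stabilizer ↥(V : Subgroup M) W).index := by
    intro W
    have hst : MulAction.stabilizer ↥(V : Subgroup M) W ≤ ((W.1 : Subgroup M)).subgroupOf (V : Subgroup M) := by
      intro v hv
      have h1 : (v : M) • W.1 = W.1 := congrArg Subtype.val hv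
      rw [mem_subgroupOf]
      have h2 : (v : M) ∈ (V : Subgroup M) ⊓ normalizer ((W.1 : Subgroup M) : Set M) :=
        mem_inf.mpr ⟨v.2, Sylow.smul_eq_iff_mem_normalizer.mp h1⟩
      have h3 : (V : Subgroup M) ⊓ normalizer ((W.1 : Subgroup M) : Set M) = (V : Subgroup M) ⊓ (W.1 : Subgroup M) :=
        V.2.inf_normalizer_sylow W.1
      exact (mem_inf.mp ((SetLike.ext_iff.mp h3 _).mp h2)).2
    have hcard : Nat.card (MulAction.stabilizer ↥(V : Subgroup M) W) ∣ 11 := by
      refine (card_dvd_of_le hst).trans ?_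
      rw [← inf_subgroupOf_left, Nat.card_congr (subgroupOfEquivOfLe inf_le_left).toEquiv]
      exact hint V W.1 (fun h => W.2 h.symm)
    obtain ⟨c, hc⟩ := hcard
    have h := (MulAction.stabilizer ↥(V : Subgroup M) W).card_mul_index
    rw [show Nat.card ↥(V : Subgroup M) = 1331 by rw [← hcardS V, card_map_of_injective M.subtype_injective]] at h
    refine ⟨c, Nat.eq_of_mul_eq_mul_left (Nat.card_pos (α := MulAction.stabilizer ↥(V : Subgroup M) W)) ?_⟩
    rw [h, mul_left_comm, ← hc]; norm_num
  have hX : 121 ∣ Nat.card X := by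
    haveI : Fintype (MulAction.orbitRel.Quotient ↥(V : Subgroup M) X) := Fintype.ofFinite _
    rw [Nat.card_congr (MulAction.selfEquivSigmaOrbits' ↥(V : Subgroup M) X), Nat.card_sigma]
    refine Finset.dvd_sum fun ω _ => ?_
    induction ω using Quotient.inductionOn' with
    | h W =>
      rw [MulAction.orbitRel.Quotient.orbit_mk, Nat.card_coe_set_eq, ← MulAction.index_stabilizer]
      exact horb W
  have hsum : Nat.card (Sylow 11 M) = 1 + Nat.card X := by
    haveI : Fintype (Sylow 11 M) := Fintype.ofFinite _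
    rw [Nat.card_eq_fintype_card, Nat.card_eq_fintype_card, Fintype.card_subtype_compl, Fintype.card_subtype_eq]
    have : 0 < Fintype.card (Sylow 11 M) := Fintype.card_pos
    omega
  rw [hsum]
  omega

end Cfsg.Lib.J4Maximal
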