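import Cfsg.Agent.J4Maximal.Irreducible

/-!
An overgroup of index 33 over such a normaliser has the elementary abelian subgroup in its core.
-/

set_option autoImplicit false
set_option linter.style.haveILetI false

namespace Cfsg.Lib.J4Maximal

open Subgroup MulAction

variable {Γ : Type*} [Group Γ] [Finite Γ] {N A : Subgroup Γ}

theorem Irr.le_core_of_index (h : Irr N A) (hidx : N.index = 33) (h31 : 31 ∣ Nat.card N) :
    A ≤ N.normalCore := by
  classical
  haveI : Fact (Nat.Prime 31) := ⟨by norm_num⟩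
  set K := N.normalCore with hK
  haveI : K.Normal := normalCore_normal N
  have hAn : N ≤ normalizer (A : Set Γ) := h.norm.ge
  have hWn : N ≤ normalizer ((A ⊓ K : Subgroup Γ) : Set Γ) := fun x hx => mem_normalizer_iff.mpr fun y => by
    rw [mem_inf, mem_inf, ← mem_normalizer_iff.mp (hAn hx) y]
    exact and_congr_right fun _ => ⟨fun hy => (normalCore_normal N).conj_mem y hy x, fun hy => by
      simpa [mul_assoc] using (normalCore_normal N).conj_mem _ hy x⁻¹⟩
  rcases h.irr _ inf_le_left hWn with e | e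
  swap
  · exact inf_eq_left.mp e
  exfalso
  obtain ⟨u, hu⟩ := exists_prime_orderOf_dvd_card' (G := ↥N) 31 h31
  have huN : (u : Γ) ∈ N := u.2
  have huo : orderOf (u : Γ) = 31 := by rw [Subgroup.orderOf_coe, hu]
  have huK : (u : Γ) ∉ K := by
    intro hk
    have hc : (u : Γ) ∈ centralizer (A : Set Γ) := mem_centralizer_iff.mpr fun a ha => by
      have hm : a * u * a⁻¹ * (u : Γ)⁻¹ ∈ A ⊓ K := by
        refine mem_inf.mpr ⟨?_, mul_mem ((normalCore_normal N).conj_mem _ hk a) (K.inv_mem hk)⟩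
        rw [show a * (u : Γ) * a⁻¹ * (u : Γ)⁻¹ = a * ((u : Γ) * a⁻¹ * (u : Γ)⁻¹) by group]
        exact mul_mem ha ((mem_normalizer_iff.mp (hAn huN) _).mp (inv_mem ha))
      rw [e, mem_bot, mul_inv_eq_one, mul_inv_eq_iff_eq_mul] at hm
      exact hm
    rw [h.cent] at hc
    have := orderOf_dvd_natCard (⟨(u : Γ), hc⟩ : ↥A)
    rw [Subgroup.orderOf_mk, huo, h.card] at this
    norm_num at this
  -- the action on the cosets
  let X := Γ ⧸ N
  let x0 : X := ((1 : Γ) : Γ ⧸ N)
  have hfix0 : ∀ g ∈ N, g • x0 = x0 := fun g hg => by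
    show ((g * 1 : Γ) : Γ ⧸ N) = ((1 : Γ) : Γ ⧸ N)
    rw [mul_one, QuotientGroup.eq]
    simpa using hg
  have hcore : ∀ g : Γ, (∀ x : X, g • x = x) → g ∈ K := by
    intro g hg b
    have := hg ((b⁻¹ : Γ) : Γ ⧸ N)
    have h' : ((g * b⁻¹ : Γ) : Γ ⧸ N) = ((b⁻¹ : Γ) : Γ ⧸ N) := this
    rw [QuotientGroup.eq] at h'
    have h'' := inv_mem h'
    simpa [mul_assoc] using h''
  -- the fixed points of u
  set U := zpowers (u : Γ) with hU
  have hUp : IsPGroup 31 ↥U := IsPGroup.of_card (n := 1) (by rw [hU, Nat.card_zpowers, huo, pow_one])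
  haveI : Finite X := inferInstance
  have hX : Nat.card X = 33 := hidx
  set F := fixedPoints ↥U X with hF
  have hFmod : 33 % 31 = Nat.card F % 31 := hX ▸ hUp.card_modEq_card_fixedPoints X
  have huF : ∀ {x : X}, x ∈ F ↔ (u : Γ) • x = x := by
    intro x
    refine ⟨fun hx => hx ⟨(u : Γ), mem_zpowers _⟩, fun hx g => ?_⟩
    obtain ⟨i, hi⟩ := mem_zpowers_iff.mp g.2
    show (g : Γ) • x = x
    rw [← hi]
    exact smul_eq_self_of_zpow hx i
  have hF33 : Nat.card F < 33 := by
    by_contra hc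
    push Not at hc
    apply huK
    apply hcore
    intro x
    have : F = Set.univ := Set.eq_of_subset_of_ncard_le (Set.subset_univ _) (by
      rw [Set.ncard_univ, hX, ← Nat.card_coe_set_eq]; exact hc)
    exact huF.mp (this ▸ Set.mem_univ x)
  have hF2 : Nat.card F = 2 := by omega
  have hx0 : x0 ∈ F := huF.mpr (hfix0 _ huN)
  obtain ⟨x1, hx1, hne⟩ : ∃ x1 ∈ F, x1 ≠ x0 := by
    by_contra hc
    push Not at hc
    have : F ⊆ {x0} := fun x hx => hc x hx
    have h1 := Set.ncard_le_ncard this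
    rw [Set.ncard_singleton, ← Nat.card_coe_set_eq, hF2] at h1
    omega
  have hFeq : F = {x0, x1} := (Set.eq_of_subset_of_ncard_le (Set.insert_subset hx0 (Set.singleton_subset_iff.mpr hx1))
    (by rw [← Nat.card_coe_set_eq, hF2, Set.ncard_pair hne.symm])).symm
  -- the orbits of A
  have hA0 : ∀ {a : Γ}, a ∈ A → ∀ {x : X}, a • x = x0 → x = x0 := fun {a} ha {x} hx => by
    rw [← inv_smul_smul a x, hx, hfix0 _ (inv_mem (h.le ha))]
  let O : X → Set X := fun x => {y | ∃ a ∈ A, a • x = y}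
  have hOcard : ∀ x, ∃ i, i ≤ 10 ∧ Set.ncard (O x) = 2 ^ i := by
    intro x
    have hO : O x = orbit ↥A x := by
      ext y
      exact ⟨fun ⟨a, ha, e⟩ => ⟨⟨a, ha⟩, e⟩, fun ⟨a, e⟩ => ⟨a, a.2, e⟩⟩
    have := (stabilizer ↥A x).index_dvd_card
    rw [index_stabilizer, h.card, show (1024 : ℕ) = 2 ^ 10 by norm_num, Nat.dvd_prime_pow Nat.prime_two] at this
    rw [hO]
    exact this
  have huO : ∀ {x : X} (i : ℕ), ((u : Γ) ^ i) • x ∈ O x → ∀ y ∈ O x, ((u : Γ) ^ i) • y ∈ O x := by
    rintro x i ⟨b, hb, eb⟩ y ⟨a, ha, rfl⟩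
    refine ⟨(u : Γ) ^ i * a * ((u : Γ) ^ i)⁻¹ * b,
      mul_mem ((mem_normalizer_iff.mp (hAn (pow_mem huN i)) a).mp ha) hb, ?_⟩
    rw [mul_smul, eb, mul_smul, mul_smul, inv_smul_smul]
  have hmod : ∀ (S : Set X), (∀ y ∈ S, (u : Γ) • y ∈ S) → S.ncard % 31 = (S ∩ F).ncard % 31 := by
    intro S hS
    have hSi : ∀ (i : ℤ) {y : X}, y ∈ S → ((u : Γ) ^ i) • y ∈ S := by
      intro i y hy
      have hp : ∀ n : ℕ, ((u : Γ) ^ n) • y ∈ S := by
        intro n
        induction n with
        | zero => simpa using hy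
        | succ n ih => rw [pow_succ', mul_smul]; exact hS _ ih
      rw [← zpow_mod_orderOf, huo]
      obtain ⟨n, hn⟩ := Int.eq_ofNat_of_zero_le (Int.emod_nonneg i (by norm_num : ((31 : ℕ) : ℤ) ≠ 0))
      rw [hn, zpow_natCast]
      exact hp n
    letI act : MulAction ↥U ↥S :=
      { smul := fun g y => ⟨(g : Γ) • (y : X), by
          obtain ⟨i, hi⟩ := mem_zpowers_iff.mp g.2
          rw [← hi]; exact hSi i y.2⟩
        one_smul := fun y => Subtype.ext (one_smul Γ (y : X))
        mul_smul := fun g g' y => Subtype.ext (mul_smul (g : Γ) (g' : Γ) (y : X)) }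
    have h' := hUp.card_modEq_card_fixedPoints ↥S
    have e' : Nat.card ↥(fixedPoints ↥U ↥S) = Nat.card ↥(S ∩ F) := Nat.card_congr
      { toFun := fun y => ⟨y.1.1, y.1.2, fun g => congrArg Subtype.val (y.2 g)⟩
        invFun := fun y => ⟨⟨y.1, y.2.1⟩, fun g => Subtype.ext (y.2.2 g)⟩
        left_inv := fun _ => rfl
        right_inv := fun _ => rfl }
    rw [e', Nat.card_coe_set_eq, Nat.card_coe_set_eq] at h'
    exact h'
  have hx0O : ∀ {x : X}, x ≠ x0 → x0 ∉ O x := fun hx ⟨a, ha, ea⟩ => hx (hA0 ha ea)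
  -- A fixes x1
  have hO1 : ∀ a ∈ A, a • x1 = x1 := by
    obtain ⟨i, hi, hc⟩ := hOcard x1
    have hinv : ∀ y ∈ O x1, (u : Γ) • y ∈ O x1 := by
      intro y hy
      have := huO (x := x1) 1 (by rw [pow_one, huF.mp hx1]; exact ⟨1, one_mem _, one_smul _ _⟩) y hy
      rwa [pow_one] at this
    have hOF : O x1 ∩ F = {x1} := by
      ext y
      rw [Set.mem_inter_iff, hFeq]
      constructor
      · rintro ⟨hy, rfl | rfl⟩
        · exact absurd hy (hx0O hne)
        · rfl
      · rintro rfl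
        exact ⟨⟨1, one_mem _, one_smul _ _⟩, Or.inr rfl⟩
    have hm := hmod (O x1) hinv
    rw [hOF, Set.ncard_singleton, hc] at hm
    have hle : (O x1).ncard ≤ 32 := by
      have := Set.ncard_le_ncard (s := O x1) (t := Set.univ \ {x0}) fun y hy =>
        ⟨trivial, fun e' => hx0O hne (Set.mem_singleton_iff.mp e' ▸ hy)⟩
      rwa [Set.ncard_sdiff (Set.subset_univ _), Set.ncard_univ, hX, Set.ncard_singleton] at this
    rw [hc] at hle
    have hi5 : i = 0 ∨ i = 5 := by
      interval_cases i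
      all_goals (first | (norm_num at hm; done) | (norm_num at hle; done) | norm_num)
    rcases hi5 with rfl | rfl
    · intro a ha
      obtain ⟨y, hy⟩ := Set.ncard_eq_one.mp hc
      have h1 : a • x1 ∈ O x1 := ⟨a, ha, rfl⟩
      have h2 : x1 ∈ O x1 := ⟨1, one_mem _, one_smul _ _⟩
      rw [hy, Set.mem_singleton_iff] at h1 h2
      rw [h1, ← h2]
    · exfalso
      have hfull : O x1 = Set.univ \ {x0} := Set.eq_of_subset_of_ncard_le (fun y hy =>
        ⟨trivial, fun e' => hx0O hne (Set.mem_singleton_iff.mp e' ▸ hy)⟩)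
        (by rw [Set.ncard_sdiff (Set.subset_univ _), Set.ncard_univ, hX, Set.ncard_singleton, hc]; norm_num)
      have hinj : Function.Injective fun a : ↥A => ((a : Γ) • x1 : X) := by
        intro a b hab
        have hfixa : ((b : Γ)⁻¹ * a) • x1 = x1 := by
          rw [mul_smul]; exact inv_smul_eq_iff.mpr hab
        have hmA : (b : Γ)⁻¹ * a ∈ A := mul_mem (inv_mem b.2) a.2
        have : (b : Γ)⁻¹ * a ∈ A ⊓ K := mem_inf.mpr ⟨hmA, hcore _ fun x => by
          by_cases hx : x = x0
          · rw [hx]; exact hfix0 _ (h.le hmA)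
          · obtain ⟨c, hc', rfl⟩ : x ∈ O x1 := hfull ▸ ⟨trivial, hx⟩
            rw [← mul_smul, h.comm hmA hc', mul_smul, hfixa]⟩
        rw [e, mem_bot, inv_mul_eq_one] at this
        exact Subtype.ext this.symm
      have := Nat.card_le_card_of_injective _ hinj
      rw [h.card, hX] at this
      omega
  -- A fixes every point
  have hall : ∀ a ∈ A, ∀ x : X, a • x = x := by
    intro a ha x
    by_cases hxF : x ∈ F
    · rw [hFeq] at hxF
      rcases hxF with rfl | rfl
      exacts [hfix0 a (h.le ha), hO1 a ha]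
    · have hOS : ∀ y ∈ O x, y ∉ F := by
        rintro y ⟨b, hb, rfl⟩ hy
        rw [hFeq] at hy
        rcases hy with hy | hy
        · exact hxF (hA0 hb hy ▸ hx0)
        · refine hxF ?_
          rw [Set.mem_singleton_iff] at hy
          rwa [← inv_smul_smul b x, hy, hO1 _ (inv_mem hb)]
      -- the cycle of u through x is the whole complement of F
      have hinjU : Function.Injective fun i : Fin 31 => (((u : Γ) ^ (i : ℕ)) • x : X) := by
        intro i j hij
        have hper : ∀ {m n : ℕ}, m ≤ n → n < 31 → ((u : Γ) ^ m) • x = ((u : Γ) ^ n) • x → m = n := by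
          intro m n hmn hn em
          by_contra hne'
          have hd : ((u : Γ) ^ (n - m)) • x = x := by
            apply smul_left_cancel ((u : Γ) ^ m)
            rw [← mul_smul, ← pow_add, Nat.add_sub_cancel' hmn, em]
          have hgen : zpowers ((u : Γ) ^ (n - m)) = U := eq_of_le_of_card_ge
            (zpowers_le.mpr (pow_mem (mem_zpowers _) _)) (by
              rw [hU, Nat.card_zpowers, Nat.card_zpowers, huo, Nat.Coprime.orderOf_pow, huo]
              rw [huo]
              exact (Nat.Prime.coprime_iff_not_dvd (by norm_num : Nat.Prime 31)).mpr fun hd' =>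
                absurd (Nat.le_of_dvd (by omega) hd') (by omega))
          refine hxF fun g => ?_
          obtain ⟨k, hk⟩ := mem_zpowers_iff.mp (hgen.symm ▸ g.2 : (g : Γ) ∈ zpowers ((u : Γ) ^ (n - m)))
          show (g : Γ) • x = x
          rw [← hk]
          exact smul_eq_self_of_zpow hd k
        rcases le_total (i : ℕ) j with hle | hle
        · exact Fin.ext (hper hle j.2 hij)
        · exact Fin.ext (hper hle i.2 hij.symm).symm
      have hsurj : ∀ y, y ∉ F → ∃ i : Fin 31, (((u : Γ) ^ (i : ℕ)) • x : X) = y := by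
        intro y hy
        have hsub : Set.range (fun i : Fin 31 => (((u : Γ) ^ (i : ℕ)) • x : X)) ⊆ Set.univ \ F := by
          rintro _ ⟨i, rfl⟩
          refine ⟨trivial, fun hf => hxF ?_⟩
          have : ∀ g : ↥U, (g : Γ) • x = x := by
            intro g
            have hg' := hf ⟨((u : Γ) ^ (i : ℕ))⁻¹ * g * (u : Γ) ^ (i : ℕ),
              mul_mem (mul_mem (inv_mem (pow_mem (mem_zpowers _) _)) g.2) (pow_mem (mem_zpowers _) _)⟩
            obtain ⟨k, hk⟩ := mem_zpowers_iff.mp g.2
            have hcm : ((u : Γ) ^ (i : ℕ))⁻¹ * g * (u : Γ) ^ (i : ℕ) = (g : Γ) := by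
              rw [← hk, mul_assoc, ((Commute.refl (u : Γ)).zpow_left k).pow_right _ |>.eq, inv_mul_cancel_left]
            have hg'' : (g : Γ) • (((u : Γ) ^ (i : ℕ)) • x) = ((u : Γ) ^ (i : ℕ)) • x := by
              rw [← hcm]; exact hg'
            apply smul_left_cancel ((u : Γ) ^ (i : ℕ))
            conv_rhs => rw [← hg'']
            rw [← mul_smul, ← mul_smul, ← hk]
            exact congrArg (· • x) (((Commute.refl (u : Γ)).zpow_left k).pow_right _).eq.symm
          exact this
        have heq := Set.eq_of_subset_of_ncard_le hsub (by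
          rw [Set.ncard_range_of_injective hinjU, Set.ncard_sdiff (Set.subset_univ _), Set.ncard_univ, hX,
            ← Nat.card_coe_set_eq F, hF2, Nat.card_fin])
        have : y ∈ Set.range (fun i : Fin 31 => (((u : Γ) ^ (i : ℕ)) • x : X)) := heq ▸ ⟨trivial, hy⟩
        exact this
      obtain ⟨i, hi⟩ := hsurj (a • x) (hOS _ ⟨a, ha, rfl⟩)
      by_cases hi0 : (i : ℕ) = 0
      · rw [hi0, pow_zero, one_smul] at hi
        exact hi.symm
      exfalso
      have hst : ∀ (k : ℕ) y, y ∈ O x → ((u : Γ) ^ ((i : ℕ) * k)) • y ∈ O x := by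
        intro k
        induction k with
        | zero => intro y hy; simpa using hy
        | succ k ih =>
          intro y hy
          rw [Nat.mul_succ, Nat.add_comm, pow_add, mul_smul]
          exact huO _ ⟨a, ha, hi.symm⟩ _ (ih y hy)
      obtain ⟨k, hk⟩ : ∃ k : ℕ, (i : ℕ) * k % 31 = 1 := by
        have key : ∀ i : Fin 31, (i : ℕ) ≠ 0 → ∃ k : Fin 31, (i : ℕ) * k % 31 = 1 := by decide +kernel
        obtain ⟨k, hk⟩ := key i hi0
        exact ⟨k, hk⟩
      have h1 : ∀ y ∈ O x, (u : Γ) • y ∈ O x := by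
        intro y hy
        have := hst k y hy
        rwa [← pow_mod_orderOf, huo, hk, pow_one] at this
      have hm := hmod (O x) h1
      rw [show O x ∩ F = ∅ from Set.eq_empty_iff_forall_notMem.mpr fun y hy => hOS y hy.1 hy.2,
        Set.ncard_empty] at hm
      obtain ⟨j, -, hc⟩ := hOcard x
      rw [hc] at hm
      have h31' : 31 ∣ 2 ^ j := Nat.dvd_of_mod_eq_zero hm
      have := Nat.le_of_dvd (by norm_num) ((by norm_num : Nat.Prime 31).dvd_of_dvd_pow h31')
      omega
  exact h.ne_bot (eq_bot_iff.mpr fun a ha => e ▸ mem_inf.mpr ⟨ha, hcore a (hall a ha)⟩)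
where
  smul_eq_self_of_zpow {Γ : Type _} [Group Γ] {α : Type _} [MulAction Γ α] {g : Γ} {x : α} (hx : g • x = x)
      (i : ℤ) : g ^ i • x = x :=
    zpow_mem (show g ∈ MulAction.stabilizer Γ x from hx) i

end Cfsg.Lib.J4Maximal
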