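import Cfsg.Agent.J4Maximal.Base
import Cfsg.Agent.J4Maximal.Coset33
import Cfsg.Agent.JankoFour.TenGroup.Bivector
import Cfsg.Agent.S5570

/-!
The normaliser of a self-centralising elementary abelian subgroup of order `2^10` is a maximal subgroup.
-/

set_option autoImplicit false
set_option linter.style.haveILetI false

namespace Cfsg.Lib.J4Maximal

open Subgroup

/-- The cofactor of the subgroup `2^10:L5(2)`. -/
def fkTen : List (ℕ × ℕ) := [(2, 1), (3, 1), (11, 3), (23, 1), (29, 1), (37, 1), (43, 1)]

theorem ten_survivors :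
    survivors 10239344640 fkTen [r43 602, r29, r31 155, r23 1] = [1, 33, 4237359621, 2] := by decide +kernel

variable {G : Type*} [Group G] [Finite G]

theorem coatom_ten [IsSimpleGroup G] (hG : ¬ IsMulCommutative G) {z : G}
    (hz : Cfsg.IsOfJankoFourTypeAt z)
    (h43 : ∀ U : Sylow 43 G, IsCoatom (normalizer ((U : Subgroup G) : Set G)))
    (A : Subgroup G) (hA : Cfsg.IsElementaryAbelian 2 A) (hAc : Nat.card A = 2 ^ 10)
    (hcent : centralizer (A : Set G) = A) : IsCoatom (normalizer (A : Set G)) := by
  classical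
  obtain ⟨⟨B, hBN, hBA, hsup, ⟨e⟩⟩, hirr⟩ := (Cfsg.Agent.S5570.result hG ⟨z, hz⟩).2.2 A hA hAc hcent
  set N := normalizer (A : Set G) with hN
  have hcard := card_G hG ⟨z, hz⟩
  have hNc : Nat.card N = 10239344640 := by
    rw [← hsup, card_sup_normal hBN hBA, hAc, Nat.card_congr e.toEquiv, Cfsg.Lib.JankoFour.Ten.card_SL]
    norm_num
  refine ⟨fun h => ?_, fun M hM => ?_⟩
  · rw [h, card_top, hcard] at hNc
    exact absurd hNc (by decide)
  by_contra hMt
  haveI : Fact (Nat.Prime 31) := ⟨by norm_num⟩
  haveI : Fact (Nat.Prime 43) := ⟨by norm_num⟩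
  have hp43 : 43 ^ (Nat.card G).factorization 43 = 43 :=
    (part_eq hG ⟨z, hz⟩ (q := 43) (n := 1) (by norm_num) (by decide +kernel) (by decide +kernel)).trans (pow_one _)
  have s43 : (r43 602).Sound (Nat.card M) := by
    refine sound_all (q := 43) hp43 (norm_big hG hz).2.2.2.2 rfl (fun U _ he => ?_) fun _ => mod_q M
    have hNU : Nat.card ↥(normalizer ((U : Subgroup G) : Set G)) = 602 :=
      ((norm_big hG hz).2.2.2.2 U).trans (by decide)
    have hle : normalizer ((U : Subgroup G) : Set G) ≤ M := inf_eq_right.mp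
      (eq_of_le_of_card_ge inf_le_right (by rw [hNU]; exact he.ge))
    rcases eq_or_lt_of_le hle with h' | h'
    · have h := card_dvd_of_le hM.le
      rw [← h', hNU, hNc] at h
      exact absurd (Nat.le_of_dvd (by norm_num) h) (by norm_num)
    · exact hMt ((h43 U).2 M h')
  obtain ⟨U, hU⟩ := exists_sylow_le (q := 31) (M := N)
    ((part_eq hG ⟨z, hz⟩ (n := 1) (by norm_num) (by decide +kernel) (by decide +kernel)).trans (pow_one _))
    (by rw [hNc]; norm_num)
  have hUc := (sylow_card hG ⟨z, hz⟩ (n := 1) (by decide +kernel) (by decide +kernel) U).trans (pow_one _)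
  have hlow := inf_norm_forced hNc U hU (nf := (r31 1).nf) (by simp [r31]; norm_num) ((norm_big hG hz).2.2.1 U) hUc
    (v := 155) (by decide +kernel)
  have s31 : (r31 155).Sound (Nat.card M) :=
    sound_of_sylow (q := 31) U (hU.trans hM.le) hUc ((norm_big hG hz).2.2.1 U)
      ((dvd_of_eq hlow.symm).trans (low_of_le hM.le U)) (inf_norm_pos M U) (mod_q M)
  obtain ⟨k, hk, hMk⟩ := exists_index hM.le hNc (fk := fkTen) (by simp [fkTen]; norm_num)
    (by rw [hcard]; decide +kernel) (rows := [r43 602, r29, r31 155, r23 1]) (by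
      intro r hr
      simp only [List.mem_cons, List.not_mem_nil, or_false] at hr
      rcases hr with rfl | rfl | rfl | rfl
      exacts [⟨by simp [r43]; norm_num, s43⟩, ⟨by simp [r29]; norm_num, sound_29 hG hz M⟩,
        ⟨by simp [r31]; norm_num, s31⟩, ⟨by simp [r23]; norm_num, sound_23 hG hz M⟩])
  rw [ten_survivors] at hk
  -- the pair inside the overgroup
  have hAM : A ≤ M := le_normalizer.trans hM.le
  have hI : Irr (N.subgroupOf M) (A.subgroupOf M) := by
    refine ⟨(subgroupOf_normalizer_eq hAM).symm, ?_, ?_, fun W hW hWn => ?_⟩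
    · rw [Nat.card_congr (subgroupOfEquivOfLe hAM).toEquiv, hAc]; norm_num
    · ext x
      rw [mem_subgroupOf]
      constructor
      · intro hx
        rw [← hcent, mem_centralizer_iff]
        exact fun a ha => congrArg Subtype.val (mem_centralizer_iff.mp hx ⟨a, hAM ha⟩ ha)
      · intro hx
        rw [← hcent, mem_centralizer_iff] at hx
        exact mem_centralizer_iff.mpr fun a ha => Subtype.ext (hx _ ha)
    · rcases hirr (W.map M.subtype) (fun y hy => by
          obtain ⟨w, hw, rfl⟩ := hy; exact hW hw) (fun n hn => by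
          rw [mem_normalizer_iff]
          have hw := mem_normalizer_iff.mp (hWn (mem_subgroupOf.mpr hn : (⟨n, hM.le hn⟩ : ↥M) ∈ N.subgroupOf M))
          intro y
          constructor
          · rintro ⟨w, hw', rfl⟩
            exact ⟨_, (hw w).mp hw', rfl⟩
          · rintro ⟨w, hw', ew⟩
            refine ⟨(⟨n, hM.le hn⟩ : ↥M)⁻¹ * w * ⟨n, hM.le hn⟩, (hw _).mpr ?_, ?_⟩
            · convert (show w ∈ W from hw') using 1; group
            · show n⁻¹ * (w : G) * n = y
              rw [show (w : G) = n * y * n⁻¹ from ew]; group) with h' | h'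
      · exact Or.inl (map_eq_bot_iff_of_injective W M.subtype_injective |>.mp h')
      · refine Or.inr ?_
        rw [← h']
        exact (comap_map_eq_self_of_injective M.subtype_injective W).symm
  have hidx : (N.subgroupOf M).index = k := by
    have h := (N.subgroupOf M).card_mul_index
    rw [Nat.card_congr (subgroupOfEquivOfLe hM.le).toEquiv, hNc, hMk] at h
    exact Nat.eq_of_mul_eq_mul_left (by norm_num) h
  simp only [List.mem_cons, List.not_mem_nil, or_false] at hk
  rcases hk with rfl | rfl | rfl | rfl
  · exact absurd (eq_of_index_one hM.le hNc hMk) hM.ne'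
  · have hn := hI.normal_of_le_core (hI.le_core_of_index hidx (by
      rw [Nat.card_congr (subgroupOfEquivOfLe hM.le).toEquiv, hNc]; norm_num))
    have hle : M ≤ N := (normal_subgroupOf_iff_le_normalizer hAM).mp hn
    exact hM.not_ge hle
  · have hMi : M.index = 2 := by
      have h := M.card_mul_index
      rw [hMk, hcard] at h
      exact Nat.eq_of_mul_eq_mul_left (by norm_num) (h.trans (by decide +kernel))
    haveI := normal_of_index_eq_two hMi
    rcases ‹IsSimpleGroup G›.eq_bot_or_eq_top_of_normal M inferInstance with h' | h'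
    · have := hM.le
      rw [h', le_bot_iff] at this
      rw [this, card_bot] at hNc
      norm_num at hNc
    · exact hMt h'
  · exact hI.index_ne_two hidx

end Cfsg.Lib.J4Maximal
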