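import Cfsg.Agent.J4Maximal.Base

/-!
Elements of orders 29, 37 and 43 generate a group of Janko-four type.
-/

set_option autoImplicit false
set_option linter.style.haveILetI false

namespace Cfsg.Lib.J4Maximal

open Subgroup

theorem top_survivors : survivors 46139 [(2, 21), (3, 3), (5, 1), (7, 1), (11, 3), (23, 1), (31, 1)]
    [r43 0, r37, r29, r23 1] = [940371172392960, 1880742344785920] := by decide +kernel

variable {G : Type*} [Group G] [Finite G]

theorem top_of_primes [IsSimpleGroup G] (hG : ¬ IsMulCommutative G) {z : G} (hz : Cfsg.IsOfJankoFourTypeAt z)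
    (M : Subgroup G) (h29 : 29 ∣ Nat.card M) (h37 : 37 ∣ Nat.card M) (h43 : 43 ∣ Nat.card M) : M = ⊤ := by
  classical
  have hcard := card_G hG ⟨z, hz⟩
  obtain ⟨c, hc⟩ : 46139 ∣ Nat.card M :=
    Nat.Coprime.mul_dvd_of_dvd_of_dvd (m := 29 * 37) (n := 43) (by norm_num)
      (Nat.Coprime.mul_dvd_of_dvd_of_dvd (by norm_num) h29 h37) h43
  have hk : c ∈ survivors 46139 [(2, 21), (3, 3), (5, 1), (7, 1), (11, 3), (23, 1), (31, 1)]
      [r43 0, r37, r29, r23 1] := by
    refine List.mem_filter.mpr ⟨mem_divList ?_ ?_, List.all_eq_true.mpr fun r hr => ?_⟩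
    · simp; norm_num
    · have h := card_subgroup_dvd_card M
      rw [hc, hcard, show ordJ = 46139 * prodPow [(2, 21), (3, 3), (5, 1), (7, 1), (11, 3), (23, 1), (31, 1)] by
        decide +kernel] at h
      exact Nat.dvd_of_mul_dvd_mul_left (by norm_num) h
    · rw [← hc]
      simp only [List.mem_cons, List.not_mem_nil, or_false] at hr
      rcases hr with rfl | rfl | rfl | rfl
      exacts [Row.ok_of_sound (by simp [r43]; norm_num) (sound_43 hG hz M),
        Row.ok_of_sound (by simp [r37]; norm_num) (sound_37 hG hz M),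
        Row.ok_of_sound (by simp [r29]; norm_num) (sound_29 hG hz M),
        Row.ok_of_sound (by simp [r23]; norm_num) (sound_23 hG hz M)]
  rw [top_survivors] at hk
  simp only [List.mem_cons, List.not_mem_nil, or_false] at hk
  rcases hk with rfl | rfl
  · have hMi : M.index = 2 := by
      have h := M.card_mul_index
      rw [hc, hcard] at h
      exact Nat.eq_of_mul_eq_mul_left (by norm_num) (h.trans (by decide +kernel))
    haveI := normal_of_index_eq_two hMi
    refine (‹IsSimpleGroup G›.eq_bot_or_eq_top_of_normal M inferInstance).resolve_left fun h => ?_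
    rw [h, card_bot] at hc
    norm_num at hc
  · exact eq_top_of_card_eq M (by rw [hc, hcard]; decide +kernel)

end Cfsg.Lib.J4Maximal
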