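import Cfsg.Agent.J4Maximal.P37.Final
import Cfsg.Agent.J4Maximal.Top

/-!
The normaliser of a Sylow 37-subgroup of a group of Janko-four type is a maximal subgroup.
-/

set_option autoImplicit false
set_option linter.style.haveILetI false

namespace Cfsg.Lib.J4Maximal

open Subgroup

variable {G : Type*} [Group G] [Finite G]

theorem coatom_thirtySeven [IsSimpleGroup G] (hG : ¬ IsMulCommutative G) {z : G}
    (hz : Cfsg.IsOfJankoFourTypeAt z) (U : Sylow 37 G) : IsCoatom (normalizer ((U : Subgroup G) : Set G)) := by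
  classical
  haveI : Fact (Nat.Prime 37) := ⟨by norm_num⟩
  obtain ⟨e⟩ := Cfsg.Lib.JankoFour.Unique.iso_J4 hG ⟨z, hz⟩
  haveI := Cfsg.Lib.J4Cert.finite_J4
  have F := (Cfsg.Lib.JankoFour.ClassNumber.facts_of hG ⟨z, hz⟩ e).map e
  have hmapc : ∀ H : Subgroup G, Nat.card (H.map e.toMonoidHom) = Nat.card H := fun H =>
    card_map_of_injective e.injective
  have hback : ∀ M : Subgroup Cfsg.Spor.J4, ∃ H : Subgroup G, H.map e.toMonoidHom = M := fun M =>
    ⟨M.comap e.toMonoidHom, map_comap_eq_self_of_surjective e.surjective M⟩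
  have htop : P37.TopPrimes := by
    intro M h29 h37 h43
    obtain ⟨H, rfl⟩ := hback M
    rw [hmapc] at h29 h37 h43
    rw [top_of_primes hG hz H h29 h37 h43, map_top_of_surjective _ e.surjective]
  -- the preimage of the chosen Sylow subgroup
  obtain ⟨H0, hH0⟩ := hback (zpowers P37.gX)
  obtain ⟨V, hV⟩ := sylow_of_card hG ⟨z, hz⟩ (q := 37) (n := 1) (by decide +kernel) (by decide +kernel) H0
    (by rw [← hmapc, hH0, Nat.card_zpowers, P37.gX_order, pow_one])
  have hNmap : (normalizer ((V : Subgroup G) : Set G)).map e.toMonoidHom =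
      normalizer (zpowers P37.gX : Set Cfsg.Spor.J4) := by
    rw [map_equiv_normalizer_eq, hV, hH0]
  have hN : Nat.card (normalizer (zpowers P37.gX : Set Cfsg.Spor.J4)) = 444 := by
    rw [← hNmap, hmapc, (norm_big hG hz).2.2.2.1 V]
    decide
  have hVc : IsCoatom (normalizer ((V : Subgroup G) : Set G)) := by
    refine ⟨fun h => ?_, fun M hM => ?_⟩
    · have h1 := (norm_big hG hz).2.2.2.1 V
      rw [h, card_top, card_G hG ⟨z, hz⟩] at h1
      revert h1
      decide +kernel
    · have hlt : normalizer (zpowers P37.gX : Set Cfsg.Spor.J4) < M.map e.toMonoidHom :=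
        hNmap ▸ (map_lt_map_iff_of_injective e.injective).mpr hM
      have h := P37.overgroup_eq F htop hN hlt
      exact map_injective e.injective (h.trans (map_top_of_surjective _ e.surjective).symm)
  obtain ⟨g, hg⟩ := MulAction.exists_smul_eq G V U
  have hU : normalizer ((U : Subgroup G) : Set G) =
      (normalizer ((V : Subgroup G) : Set G)).map (MulAut.conj g).toMonoidHom := by
    rw [map_equiv_normalizer_eq, ← hg, Sylow.coe_subgroup_smul]
    rfl
  rw [hU]
  exact ((MulAut.conj g).mapSubgroup.isCoatom_iff _).mpr hVc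

end Cfsg.Lib.J4Maximal
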