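import Cfsg.Agent.J4Maximal.Base
import Cfsg.Agent.S5574

/-!
The normaliser of a special subgroup of order `2^15` in a group of Janko-four type is a maximal subgroup.
-/

set_option autoImplicit false
set_option linter.style.haveILetI false

namespace Cfsg.Lib.J4Maximal

open Subgroup

/-- The cofactor of the pentad local subgroup. -/
def fkPentad : List (ℕ × ℕ) := [(3, 1), (11, 3), (23, 1), (29, 1), (31, 1), (37, 1), (43, 1)]

theorem pentad_survivors :
    survivors 660602880 fkPentad [r43 0, r37, r31 1, r23 1, r11, r7 2520, r5 26880] = [1, 131358148251] := by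
  decide +kernel

variable {G : Type*} [Group G] [Finite G]

theorem exists_coatom_pentad [IsSimpleGroup G] (hG : ¬ IsMulCommutative G) {z : G}
    (hz : Cfsg.IsOfJankoFourTypeAt z)
    (h121 : ∀ M : Subgroup G, 11 ^ 3 ∣ Nat.card M → Nat.card (Sylow 11 M) % 121 = 1) :
    ∃ L : Subgroup G, Cfsg.IsSpecial 2 ↥L ∧ Nat.card ↥L = 2 ^ 15 ∧ Nat.card ↥(Subgroup.center ↥L) = 8 ∧
      IsCoatom (normalizer (L : Set G)) := by
  classical
  obtain ⟨L, hsp, hL, hZ, ⟨e⟩, -, -, -, ⟨Q, hQ⟩, ⟨S, hS⟩⟩ := Cfsg.Agent.S5574.result hG ⟨z, hz⟩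
  refine ⟨L, hsp, hL, hZ, ?_⟩
  set N := normalizer (L : Set G) with hN
  have hcard := card_G hG ⟨z, hz⟩
  have hNc : Nat.card N = 660602880 := by
    rw [card_eq_card_quotient_mul_card_subgroup (L.subgroupOf N), Nat.card_congr e.toEquiv,
      Nat.card_congr (subgroupOfEquivOfLe le_normalizer).toEquiv, hL, Nat.card_prod, Nat.card_perm, Nat.card_fin,
      Cfsg.Lib.LargeFischer.card_L32]
    decide
  refine ⟨fun h => ?_, fun M hM => ?_⟩
  · rw [h, card_top, hcard] at hNc
    exact absurd hNc (by decide)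
  haveI : Fact (Nat.Prime 5) := ⟨by norm_num⟩
  haveI : Fact (Nat.Prime 7) := ⟨by norm_num⟩
  have hQM := hQ.trans hM.le
  have hSM := hS.trans hM.le
  have s5 : (r5 26880).Sound (Nat.card M) := by
    refine sound_of_sylow (q := 5) Q (le_normalizer.trans hQM)
      ((sylow_card hG ⟨z, hz⟩ (n := 1) (by decide +kernel) (by decide +kernel) Q).trans (by decide))
      (norm_five hG hz Q) ?_ (inf_norm_pos M Q) (mod_q M)
    rw [inf_eq_right.mpr hQM, norm_five hG hz Q]
    decide
  have s7 : (r7 2520).Sound (Nat.card M) := by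
    refine sound_of_sylow (q := 7) S (le_normalizer.trans hSM)
      ((sylow_card hG ⟨z, hz⟩ (n := 1) (by decide +kernel) (by decide +kernel) S).trans (by decide))
      (norm_seven hG hz S) ?_ (inf_norm_pos M S) (mod_q M)
    rw [inf_eq_right.mpr hSM, norm_seven hG hz S]
    decide
  obtain ⟨k, hk, hMk⟩ := exists_index hM.le hNc (fk := fkPentad) (by simp [fkPentad]; norm_num)
    (by rw [hcard]; decide +kernel) (rows := [r43 0, r37, r31 1, r23 1, r11, r7 2520, r5 26880]) (by
      intro r hr
      simp only [List.mem_cons, List.not_mem_nil, or_false] at hr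
      rcases hr with rfl | rfl | rfl | rfl | rfl | rfl | rfl
      exacts [⟨by simp [r43]; norm_num, sound_43 hG hz M⟩, ⟨by simp [r37]; norm_num, sound_37 hG hz M⟩,
        ⟨by simp [r31]; norm_num, sound_31 hG hz M⟩, ⟨by simp [r23]; norm_num, sound_23 hG hz M⟩,
        ⟨by simp [r11]; norm_num, sound_11 hG hz M (h121 M)⟩, ⟨by simp [r7]; norm_num, s7⟩,
        ⟨by simp [r5]; norm_num, s5⟩])
  rw [pentad_survivors] at hk
  simp only [List.mem_cons, List.not_mem_nil, or_false] at hk
  rcases hk with rfl | rfl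
  · exact absurd (eq_of_index_one hM.le hNc hMk) hM.ne'
  · exact eq_top_of_card_eq M (by rw [hMk, hcard]; decide +kernel)

end Cfsg.Lib.J4Maximal
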