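import Cfsg.Agent.J4Maximal.Central
import Cfsg.Agent.J4Maximal.Eleven
import Cfsg.Agent.J4Maximal.Ten
import Cfsg.Agent.J4Maximal.ThreeTwelve
import Cfsg.Agent.J4Maximal.ThirtySeven
import Cfsg.Agent.J4Maximal.ModEleven

/-!
The maximal local subgroups of a group of Janko-four type, put together.
-/

set_option autoImplicit false

namespace Cfsg.Lib.J4Maximal

open Subgroup

variable {G : Type*} [Group G] [Finite G]

theorem local_maximal [IsSimpleGroup G] (hG : ¬ IsMulCommutative G) (z : G) (hJ : Cfsg.IsOfJankoFourTypeAt z)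
    (h11 : ∀ U : Sylow 11 G, IsCoatom (normalizer ((U : Subgroup G) : Set G)))
    (h29 : ∀ U : Sylow 29 G, IsCoatom (normalizer ((U : Subgroup G) : Set G)))
    (h43 : ∀ U : Sylow 43 G, IsCoatom (normalizer ((U : Subgroup G) : Set G))) :
    IsCoatom (centralizer ({z} : Set G)) ∧
    (∀ V : Subgroup G, Cfsg.IsElementaryAbelian 2 V → Nat.card ↥V = 2 ^ 11 → IsCoatom (normalizer (V : Set G))) ∧
    (∀ A : Subgroup G, Cfsg.IsElementaryAbelian 2 A → Nat.card ↥A = 2 ^ 10 → centralizer (A : Set G) = A →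
      IsCoatom (normalizer (A : Set G))) ∧
    (∃ L : Subgroup G, Cfsg.IsSpecial 2 ↥L ∧ Nat.card ↥L = 2 ^ 15 ∧ Nat.card ↥(Subgroup.center ↥L) = 8 ∧
      IsCoatom (normalizer (L : Set G))) ∧
    (∀ U : Sylow 11 G, IsCoatom (normalizer ((U : Subgroup G) : Set G))) ∧
    (∀ U : Sylow 29 G, IsCoatom (normalizer ((U : Subgroup G) : Set G))) ∧
    (∀ U : Sylow 37 G, IsCoatom (normalizer ((U : Subgroup G) : Set G))) ∧
    ∀ U : Sylow 43 G, IsCoatom (normalizer ((U : Subgroup G) : Set G)) :=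
  ⟨coatom_centralizer hG hJ (eleven_count hG hJ), coatom_todd hG hJ, coatom_ten hG hJ h43, exists_coatom_pentad hG hJ (eleven_count hG hJ), h11, h29,
    coatom_thirtySeven hG hJ, h43⟩

end Cfsg.Lib.J4Maximal
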