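import Cfsg.Agent.J4Maximal.Base
import Cfsg.Agent.JankoFour.FiveStructure
import Cfsg.Agent.JankoFour.SevenInner

/-!
The involution centraliser of a group of Janko-four type is a maximal subgroup.
-/

set_option autoImplicit false
set_option linter.style.haveILetI false

namespace Cfsg.Lib.J4Maximal

open Subgroup

/-- The cofactor of the involution centraliser. -/
def fkCentral : List (ℕ × ℕ) := [(11, 2), (23, 1), (29, 1), (31, 1), (37, 1), (43, 1)]

theorem central_survivors :
    survivors 21799895040 fkCentral [r43 0, r37, r31 1, r23 1, r11, r7 252, r5 3840] = [1, 3980549947] := by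
  decide +kernel

variable {G : Type*} [Group G] [Finite G]

theorem coatom_centralizer [IsSimpleGroup G] (hG : ¬ IsMulCommutative G) {z : G}
    (hz : Cfsg.IsOfJankoFourTypeAt z)
    (h121 : ∀ M : Subgroup G, 11 ^ 3 ∣ Nat.card M → Nat.card (Sylow 11 M) % 121 = 1) :
    IsCoatom (centralizer ({z} : Set G)) := by
  classical
  obtain ⟨P, hP⟩ := id hz
  obtain ⟨C⟩ := Cfsg.Lib.JankoFour.exists_ctx hP
  have hcH : Nat.card ↥(centralizer ({z} : Set G)) = 21799895040 := C.cardH
  have hcard := card_G hG ⟨z, hz⟩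
  refine ⟨fun h => ?_, fun M hM => ?_⟩
  · rw [h, card_top, hcard] at hcH
    exact absurd hcH (by decide)
  haveI : Fact (Nat.Prime 5) := ⟨by norm_num⟩
  haveI : Fact (Nat.Prime 7) := ⟨by norm_num⟩
  obtain ⟨F⟩ := C.exists_five
  obtain ⟨U5, hU5⟩ := sylow_of_card hG ⟨z, hz⟩ (q := 5) (n := 1) (by decide +kernel) (by decide +kernel)
    (zpowers F.s) (by rw [F.card_s, pow_one])
  obtain ⟨s, hs, hso, -, -⟩ := C.exists_model_seven
  have hc : Nat.card (zpowers s) = 7 := by rw [Nat.card_zpowers, hso]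
  obtain ⟨U7, hU7⟩ := sylow_of_card hG ⟨z, hz⟩ (q := 7) (n := 1) (by decide +kernel) (by decide +kernel)
    (zpowers s) (by rw [hc, pow_one])
  have s5 : (r5 3840).Sound (Nat.card M) := by
    refine sound_of_sylow (q := 5) U5 (hU5 ▸ (zpowers_le.mpr F.sH).trans hM.le) (by rw [hU5, F.card_s]; rfl)
      (norm_five hG hz U5) ?_ (inf_norm_pos M U5) (mod_q M)
    show 3840 ∣ _
    rw [← F.cards.1]
    refine card_dvd_of_le ?_
    rw [hU5]
    exact inf_le_inf_right _ hM.le
  have s7 : (r7 252).Sound (Nat.card M) := by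
    refine sound_of_sylow (q := 7) U7 (hU7 ▸ (zpowers_le.mpr hs).trans hM.le) (by rw [hU7, hc]; rfl)
      (norm_seven hG hz U7) ?_ (inf_norm_pos M U7) (mod_q M)
    show 252 ∣ _
    rw [← (C.inner_seven (zpowers_le.mpr hs) hc).1]
    refine card_dvd_of_le ?_
    rw [hU7]
    exact inf_le_inf_right _ hM.le
  obtain ⟨k, hk, hMk⟩ := exists_index hM.le hcH (fk := fkCentral) (by simp [fkCentral]; norm_num)
    (by rw [hcard]; decide +kernel) (rows := [r43 0, r37, r31 1, r23 1, r11, r7 252, r5 3840]) (by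
      intro r hr
      simp only [List.mem_cons, List.not_mem_nil, or_false] at hr
      rcases hr with rfl | rfl | rfl | rfl | rfl | rfl | rfl
      exacts [⟨by simp [r43]; norm_num, sound_43 hG hz M⟩, ⟨by simp [r37]; norm_num, sound_37 hG hz M⟩,
        ⟨by simp [r31]; norm_num, sound_31 hG hz M⟩, ⟨by simp [r23]; norm_num, sound_23 hG hz M⟩,
        ⟨by simp [r11]; norm_num, sound_11 hG hz M (h121 M)⟩, ⟨by simp [r7]; norm_num, s7⟩,
        ⟨by simp [r5]; norm_num, s5⟩])
  rw [central_survivors] at hk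
  simp only [List.mem_cons, List.not_mem_nil, or_false] at hk
  rcases hk with rfl | rfl
  · exact absurd (eq_of_index_one hM.le hcH hMk) hM.ne'
  · exact eq_top_of_card_eq M (by rw [hMk, hcard]; decide +kernel)

end Cfsg.Lib.J4Maximal
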