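import Mathlib

/-!
Subgroups over the normaliser of a self-centralising elementary abelian subgroup on which it is irreducible.
-/

set_option autoImplicit false
set_option linter.style.haveILetI false

namespace Cfsg.Lib.J4Maximal

open Subgroup

variable {Γ : Type*} [Group Γ] [Finite Γ] (N A : Subgroup Γ)

/-- The hypotheses on the pair. -/
structure Irr : Prop where
  norm : normalizer (A : Set Γ) = N
  card : Nat.card A = 1024
  cent : centralizer (A : Set Γ) = A
  irr : ∀ W : Subgroup Γ, W ≤ A → N ≤ normalizer (W : Set Γ) → W = ⊥ ∨ W = A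

variable {N A}

omit [Finite Γ] in
theorem Irr.le (h : Irr N A) : A ≤ N := h.norm ▸ le_normalizer

omit [Finite Γ] in
theorem Irr.ne_bot (h : Irr N A) : A ≠ ⊥ := fun e => by
  have := h.card
  rw [e, card_bot] at this
  norm_num at this

omit [Finite Γ] in
theorem Irr.comm (h : Irr N A) {a b : Γ} (ha : a ∈ A) (hb : b ∈ A) : a * b = b * a := by
  rw [← h.cent] at ha
  exact (mem_centralizer_iff.mp ha b hb).symm

/-- An element normalising the normaliser lies in it. -/
theorem Irr.mem_of_normalizes (h : Irr N A) {g : Γ} (hg : g ∈ normalizer (N : Set Γ)) : g ∈ N := by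
  set A' := A.map (MulAut.conj g).toMonoidHom with hA'
  have hmap : N.map (MulAut.conj g).toMonoidHom = N := by
    apply eq_of_le_of_card_ge
    · rintro _ ⟨x, hx, rfl⟩
      exact (mem_normalizer_iff.mp hg x).mp hx
    · rw [card_map_of_injective (MulAut.conj g).injective]
  have hA'N : A' ≤ N := hmap ▸ map_mono h.le
  have hN' : N ≤ normalizer (A' : Set Γ) := by
    rw [hA', ← map_equiv_normalizer_eq, h.norm, hmap]
  have hAn : N ≤ normalizer (A : Set Γ) := h.norm.ge
  have hW : N ≤ normalizer ((A ⊓ A' : Subgroup Γ) : Set Γ) := fun x hx => mem_normalizer_iff.mpr fun y => by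
    rw [mem_inf, mem_inf, ← mem_normalizer_iff.mp (hAn hx) y, ← mem_normalizer_iff.mp (hN' hx) y]
  have hc : Nat.card A' = Nat.card A := card_map_of_injective (MulAut.conj g).injective
  rcases h.irr _ inf_le_left hW with e | e
  · exfalso
    have hle : A' ≤ A := by
      intro y hy
      rw [← h.cent, mem_centralizer_iff]
      intro a ha
      have hm : a * y * a⁻¹ * y⁻¹ ∈ A ⊓ A' := by
        refine mem_inf.mpr ⟨?_, mul_mem ((mem_normalizer_iff.mp (hN' (h.le ha)) y).mp hy) (inv_mem hy)⟩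
        rw [show a * y * a⁻¹ * y⁻¹ = a * (y * a⁻¹ * y⁻¹) by group]
        exact mul_mem ha ((mem_normalizer_iff.mp (hAn (hA'N hy)) _).mp (inv_mem ha))
      rw [e, mem_bot, mul_inv_eq_one, mul_inv_eq_iff_eq_mul] at hm
      exact hm
    rw [inf_eq_right.mpr hle] at e
    rw [e, card_bot, h.card] at hc
    norm_num at hc
  · have e2 : A' = A := (eq_of_le_of_card_ge (inf_eq_left.mp e) hc.le).symm
    rw [← h.norm, mem_normalizer_iff]
    intro x
    refine ⟨fun hx => e2 ▸ ⟨x, hx, rfl⟩, fun hx => ?_⟩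
    rw [← e2] at hx
    obtain ⟨y, hy, ey⟩ := hx
    rwa [← (MulAut.conj g).injective ey]

theorem Irr.index_ne_two (h : Irr N A) : N.index ≠ 2 := fun h2 => by
  haveI := normal_of_index_eq_two h2
  have htop : N = ⊤ := eq_top_iff.mpr fun g _ => h.mem_of_normalizes (by rw [normalizer_eq_top]; trivial)
  rw [htop, index_top] at h2
  norm_num at h2

/-- If the subgroup lies in all conjugates of its normaliser, it is normal. -/
theorem Irr.normal_of_le_core (h : Irr N A) (hA : A ≤ N.normalCore) : A.Normal := by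
  classical
  set K := N.normalCore
  have hKN : K ≤ N := normalCore_le N
  let B : Γ → Subgroup ↥K := fun g => (A.map (MulAut.conj g).toMonoidHom).subgroupOf K
  have hBn : ∀ g, (B g).Normal := by
    intro g
    refine ⟨fun x hx k => ?_⟩
    rw [mem_subgroupOf] at hx ⊢
    obtain ⟨a, ha, ea⟩ := hx
    have hk : g⁻¹ * k * g ∈ K := by simpa using (normalCore_normal N).conj_mem (k : Γ) k.2 g⁻¹
    refine ⟨g⁻¹ * k * g * a * (g⁻¹ * k * g)⁻¹, (mem_normalizer_iff.mp (h.norm.ge (hKN hk)) a).mp ha, ?_⟩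
    show g * (g⁻¹ * k * g * a * (g⁻¹ * k * g)⁻¹) * g⁻¹ = (k : Γ) * x * (k : Γ)⁻¹
    rw [← ea]
    show _ = (k : Γ) * (g * a * g⁻¹) * (k : Γ)⁻¹
    group
  have hBp : ∀ g, IsPGroup 2 (B g) := fun g => by
    refine IsPGroup.comap_of_injective (IsPGroup.map (IsPGroup.of_card (n := 10) ?_) _) _ K.subtype_injective
    rw [h.card]; norm_num
  haveI : Fintype Γ := Fintype.ofFinite Γ
  have hS : ∀ S : Finset Γ, (S.sup B).Normal ∧ IsPGroup 2 ↥(S.sup B) := by
    intro S
    induction S using Finset.induction_on with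
    | empty => exact ⟨by rw [Finset.sup_empty]; infer_instance, by rw [Finset.sup_empty]; exact IsPGroup.of_bot⟩
    | insert g S _ ih =>
      rw [Finset.sup_insert]
      haveI := hBn g
      haveI := ih.1
      exact ⟨Subgroup.sup_normal _ _, (hBp g).to_sup_of_normal_right ih.2⟩
  set T := normalClosure (A : Set Γ) with hT
  have hTle : T ≤ ((Finset.univ : Finset Γ).sup B).map K.subtype := by
    rw [hT, normalClosure, closure_le]
    intro x hx
    obtain ⟨a, ha, hax⟩ := Group.mem_conjugatesOfSet_iff.mp hx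
    obtain ⟨g, rfl⟩ := isConj_iff.mp hax
    refine ⟨⟨g * a * g⁻¹, (normalCore_normal N).conj_mem a (hA ha) g⟩,
      Finset.le_sup (f := B) (Finset.mem_univ g) ?_, rfl⟩
    exact mem_subgroupOf.mpr ⟨a, ha, rfl⟩
  have hTp : IsPGroup 2 ↥T := ((hS _).2.map _).to_le hTle
  have hAT : A ≤ T := fun x hx => subset_normalClosure hx
  set Z := (center ↥T).map T.subtype with hZ
  haveI : T.Normal := normalClosure_normal
  have hZn : Z.Normal := inferInstance
  have hZA : Z ≤ A := by
    rintro _ ⟨y, hy, rfl⟩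
    rw [← h.cent, mem_centralizer_iff]
    intro a ha
    exact congrArg Subtype.val (mem_center_iff.mp hy ⟨a, hAT ha⟩)
  haveI : Nontrivial ↥T := by
    obtain ⟨a, ha, ha1⟩ := exists_ne_one_of_ne_bot' h
    exact ⟨⟨⟨a, hAT ha⟩, 1, fun e => ha1 (congrArg Subtype.val e)⟩⟩
  haveI : Fact (Nat.Prime 2) := ⟨Nat.prime_two⟩
  haveI := hTp.center_nontrivial
  rcases h.irr Z hZA (by rw [normalizer_eq_top]; exact le_top) with e | e
  · exfalso
    obtain ⟨⟨y, hy⟩, hy1⟩ := exists_ne (1 : ↥(center ↥T))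
    refine hy1 (Subtype.ext (Subtype.ext ?_))
    have : (y : Γ) ∈ Z := ⟨y, hy, rfl⟩
    rwa [e, mem_bot] at this
  · exact e ▸ hZn
where
  exists_ne_one_of_ne_bot' {N A : Subgroup Γ} (h : Irr N A) : ∃ a ∈ A, a ≠ 1 := by
    by_contra hc
    push Not at hc
    exact h.ne_bot (eq_bot_iff.mpr fun a ha => mem_bot.mpr (hc a ha))

end Cfsg.Lib.J4Maximal
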