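import Cfsg.Agent.J4Maximal.Transfer

/-!
A prime part of a group whose Sylow 7-normaliser is cyclic is congruent to 1 modulo 7.
-/

set_option autoImplicit false
set_option linter.style.haveILetI false

namespace Cfsg.Lib.J4Maximal

open Subgroup

variable {Γ : Type*} [Group Γ] [Finite Γ]

theorem seven_part {M : Subgroup Γ} {s v : Γ} {c : ℕ} (hs : orderOf s = 7) (hvs : Commute v s) (hsM : s ∈ M)
    (hvle : M ⊓ normalizer (zpowers s : Set Γ) ≤ zpowers v)
    (hc : Nat.card ↥(M ⊓ normalizer (zpowers s : Set Γ)) = c) (h49 : ¬ 7 ^ 2 ∣ Nat.card M)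
    {q b : ℕ} (hq : q.Prime) (hq7 : q ≠ 7) (hqc : q.Coprime c)
    (h1 : q ^ b ∣ Nat.card M) (h2 : ¬ q ^ (b + 1) ∣ Nat.card M) : q ^ b % 7 = 1 := by
  haveI := Fact.mk hq
  haveI : Fact (Nat.Prime 7) := ⟨by norm_num⟩
  set Q := zpowers s
  have hQc : Nat.card Q = 7 ^ 1 := by rw [Nat.card_zpowers, hs, pow_one]
  obtain ⟨K, hKM, hMK, hKc, hKco⟩ := exists_complement_in (zpowers_le.mpr hsM) hQc h49 fun g hg hgn => by
    have hgv : g ∈ zpowers v := hvle (mem_inf.mpr ⟨hg, hgn⟩)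
    obtain ⟨i, rfl⟩ := hgv
    rw [mem_centralizer_iff]
    rintro _ ⟨j, rfl⟩
    exact ((hvs.zpow_left i).zpow_right j).eq.symm
  rw [pow_one] at hKc
  have h7K : ¬ 7 ∣ Nat.card K := fun h => h49 (by rw [← hKc, pow_two]; exact Nat.mul_dvd_mul_right h 7)
  obtain ⟨P, hPK, hPc, hsP⟩ := exists_invariant (q := q) hs (hMK hsM) h7K
  have hco : (q ^ b).Coprime 7 := Nat.Coprime.pow_left _ ((Nat.coprime_primes hq (by norm_num)).mpr hq7)
  have hb : (Nat.card K).factorization q = b := by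
    refine le_antisymm ?_ ((hq.pow_dvd_iff_le_factorization Nat.card_pos.ne').mp
      (hco.dvd_of_dvd_mul_right (hKc ▸ h1)))
    by_contra h
    exact h2 (((hq.pow_dvd_iff_le_factorization Nat.card_pos.ne').mpr (show b + 1 ≤ _ by omega)).trans
      (card_dvd_of_le hKM))
  rw [hb] at hPc
  have hfix : P ⊓ centralizer ({s} : Set Γ) ≤ M ⊓ normalizer (Q : Set Γ) := by
    intro g hg
    obtain ⟨hgP, hgc⟩ := mem_inf.mp hg
    refine mem_inf.mpr ⟨hKM (hPK hgP), ?_⟩
    have hcs : Commute g s := mem_centralizer_singleton_iff.mp hgc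
    rw [mem_normalizer_iff]
    intro y
    constructor
    · rintro ⟨j, rfl⟩
      exact ⟨j, by simp only; rw [(hcs.zpow_right j).eq, mul_inv_cancel_right]⟩
    · rintro ⟨j, hj⟩
      refine ⟨j, ?_⟩
      have : y = g⁻¹ * (g * y * g⁻¹) * g := by group
      rw [this, ← show (fun z : ℤ => s ^ z) j = g * y * g⁻¹ from hj]
      simp only
      rw [mul_assoc, ← (hcs.zpow_right j).eq, inv_mul_cancel_left]
  have h1' : Nat.card ↥(P ⊓ centralizer ({s} : Set Γ)) = 1 := by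
    have hd1 : Nat.card ↥(P ⊓ centralizer ({s} : Set Γ)) ∣ q ^ b := hPc ▸ card_dvd_of_le inf_le_left
    have hd2 : Nat.card ↥(P ⊓ centralizer ({s} : Set Γ)) ∣ c := hc ▸ card_dvd_of_le hfix
    have hd := Nat.dvd_gcd hd1 hd2
    rw [Nat.Coprime.pow_left b hqc] at hd
    exact Nat.dvd_one.mp hd
  have h := card_modEq_fixed hs hsP
  rw [hPc, h1'] at h
  exact h

end Cfsg.Lib.J4Maximal
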