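import Cfsg.Agent.J4Maximal.P11.Final
import Cfsg.Agent.J4Maximal.ModEleven
import Cfsg.Agent.J4Maximal.Top

/-!
The normaliser of a Sylow 11-subgroup of a group of Janko-four type is a maximal subgroup.
-/

set_option autoImplicit false
set_option linter.style.haveILetI false

namespace Cfsg.Lib.J4Maximal

open Subgroup Cfsg.Lib.J4Eleven

/-- The cofactor of the normaliser of order 319440. -/
def fkEleven : List (ℕ × ℕ) := [(2, 17), (3, 2), (7, 1), (23, 1), (29, 1), (31, 1), (37, 1), (43, 1)]

/-- The row of the prime 5 for a normaliser meeting the subgroup in order 240. -/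
def r5exact : Row := ⟨5, [(2, 4), (3, 1), (5, 1)], 240, 0, 5⟩

/-- The row of the prime 11 for a subgroup containing the whole normaliser. -/
def r11full : Row := ⟨1331, [(2, 4), (3, 1), (5, 1), (11, 3)], 319440, 0, 121⟩

theorem eleven_survivors : survivors 319440 fkEleven [r11full, r5exact, r23 1, r31 1] = [1] := by decide +kernel

variable {G : Type*} [Group G] [Finite G]

theorem coatom_eleven [IsSimpleGroup G] (hG : ¬ IsMulCommutative G) {z : G}
    (hz : Cfsg.IsOfJankoFourTypeAt z) (U : Sylow 11 G) : IsCoatom (normalizer ((U : Subgroup G) : Set G)) := by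
  classical
  haveI : Fact (Nat.Prime 11) := ⟨by norm_num⟩
  haveI : Fact (Nat.Prime 5) := ⟨by norm_num⟩
  obtain ⟨e⟩ := Cfsg.Lib.JankoFour.Unique.iso_J4 hG ⟨z, hz⟩
  haveI := Cfsg.Lib.J4Cert.finite_J4
  have hmapc : ∀ H : Subgroup G, Nat.card (H.map e.toMonoidHom) = Nat.card H := fun H =>
    card_map_of_injective e.injective
  have hback : ∀ M : Subgroup Cfsg.Spor.J4, ∃ H : Subgroup G, H.map e.toMonoidHom = M := fun M =>
    ⟨M.comap e.toMonoidHom, map_comap_eq_self_of_surjective e.surjective M⟩
  have hcard := card_G hG ⟨z, hz⟩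
  -- the chosen subgroup of order 1331
  obtain ⟨A, hA⟩ := hback hJ4.U
  obtain ⟨V, hV⟩ := sylow_of_card hG ⟨z, hz⟩ (q := 11) (n := 3) (by decide +kernel) (by decide +kernel) A
    (by rw [← hmapc, hA, hJ4.card_U]; norm_num)
  have hNmap : (normalizer ((V : Subgroup G) : Set G)).map e.toMonoidHom =
      normalizer (hJ4.U : Set Cfsg.Spor.J4) := by
    rw [map_equiv_normalizer_eq, hV, hA]
  have hNc : Nat.card (normalizer ((V : Subgroup G) : Set G)) = 319440 :=
    (norm_eleven hG hz V).trans (by decide)
  -- the chosen subgroup of order 5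
  obtain ⟨B, hB⟩ := hback (zpowers P11.gS)
  obtain ⟨W, hW⟩ := sylow_of_card hG ⟨z, hz⟩ (q := 5) (n := 1) (by decide +kernel) (by decide +kernel) B
    (by rw [← hmapc, hB, Nat.card_zpowers, P11.gS_order, pow_one])
  have hWmap : (normalizer ((W : Subgroup G) : Set G)).map e.toMonoidHom =
      normalizer (zpowers P11.gS : Set Cfsg.Spor.J4) := by
    rw [map_equiv_normalizer_eq, hW, hB]
  have hN5 : Nat.card (normalizer (zpowers P11.gS : Set Cfsg.Spor.J4)) = 26880 := by
    rw [← hWmap, hmapc, norm_five hG hz W]
    decide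
  have hWN : (W : Subgroup G) ≤ normalizer ((V : Subgroup G) : Set G) := by
    rw [← map_le_map_iff_of_injective (f := e.toMonoidHom) e.injective, hNmap, hW, hB, zpowers_le]
    exact P11.pe_NU (by norm_num)
  have hVc : IsCoatom (normalizer ((V : Subgroup G) : Set G)) := by
    refine ⟨fun h => ?_, fun M hM => ?_⟩
    · rw [h, card_top, hcard] at hNc
      exact absurd hNc (by decide +kernel)
    by_contra hne
    have h240 : Nat.card ↥(M ⊓ normalizer ((W : Subgroup G) : Set G)) = 240 := by
      rw [← hmapc, map_inf _ _ _ e.injective, hWmap]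
      refine P11.inf_five hN5 (hNmap ▸ map_mono hM.le) fun h => hne ?_
      rw [hmapc] at h
      exact top_of_primes hG hz M h.1 h.2.1 h.2.2
    have s5 : r5exact.Sound (Nat.card M) := fun _ =>
      ⟨240, by decide, by decide, dvd_refl _, by decide, h240 ▸ card_dvd_of_le inf_le_left, by
        rw [← h240, ← sylow_count M W (hWN.trans hM.le)]; exact mod_q M⟩
    have hVM : (V : Subgroup G) ≤ M := le_normalizer.trans hM.le
    have s11 : r11full.Sound (Nat.card M) := by
      have hpart : Nat.card (V : Subgroup G) = r11full.part := by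
        rw [sylow_card hG ⟨z, hz⟩ (n := 3) (by decide +kernel) (by decide +kernel) V]; rfl
      refine sound_of_sylow (q := 11) V hVM hpart ((norm_eleven hG hz V).trans (by decide)) ?_
        (inf_norm_pos M V) (eleven_count hG hz M ?_)
      · rw [inf_eq_right.mpr hM.le, hNc]; exact dvd_refl _
      · refine (dvd_of_eq ?_).trans (card_dvd_of_le hVM)
        rw [hpart]; rfl
    obtain ⟨k, hk, hMk⟩ := exists_index hM.le hNc (fk := fkEleven) (by simp [fkEleven]; norm_num)
      (by rw [hcard]; decide +kernel) (rows := [r11full, r5exact, r23 1, r31 1]) (by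
        intro r hr
        simp only [List.mem_cons, List.not_mem_nil, or_false] at hr
        rcases hr with rfl | rfl | rfl | rfl
        exacts [⟨by simp [r11full]; norm_num, s11⟩,
          ⟨by simp [r5exact]; norm_num, s5⟩, ⟨by simp [r23]; norm_num, sound_23 hG hz M⟩,
          ⟨by simp [r31]; norm_num, sound_31 hG hz M⟩])
    rw [eleven_survivors, List.mem_singleton] at hk
    subst hk
    exact hM.ne' (eq_of_index_one hM.le hNc hMk)
  obtain ⟨g, hg⟩ := MulAction.exists_smul_eq G V U
  have hU : normalizer ((U : Subgroup G) : Set G) =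
      (normalizer ((V : Subgroup G) : Set G)).map (MulAut.conj g).toMonoidHom := by
    rw [map_equiv_normalizer_eq, ← hg, Sylow.coe_subgroup_smul]
    rfl
  rw [hU]
  exact ((MulAut.conj g).mapSubgroup.isCoatom_iff _).mpr hVc

end Cfsg.Lib.J4Maximal
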