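import Cfsg.Agent.J4Maximal.P43.Final
import Cfsg.Agent.J4Maximal.ModEleven
import Cfsg.Agent.J4Maximal.SevenPart
import Cfsg.Agent.J4Maximal.Top

/-!
The normaliser of a Sylow 43-subgroup of a group of Janko-four type is a maximal subgroup.
-/

set_option autoImplicit false
set_option linter.style.haveILetI false

namespace Cfsg.Lib.J4Maximal

open Subgroup

/-- The cofactor of the normaliser of order 602. -/
def fk43 : List (ℕ × ℕ) := [(2, 20), (3, 3), (5, 1), (11, 3), (23, 1), (29, 1), (31, 1), (37, 1)]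

/-- The row of the prime 43 for a subgroup containing the whole normaliser. -/
def r43full : Row := ⟨43, [(2, 1), (7, 1), (43, 1)], 602, 0, 43⟩

/-- The row of the prime 7 for a normaliser meeting the subgroup in order 14. -/
def r7exact43 : Row := ⟨7, [(2, 1), (7, 1)], 14, 0, 7⟩

theorem survivors43 : survivors 602 fk43 [r43full, r7exact43, r11, r23 1, r31 1, r29, r37] = [1, 3312, 720896] := by
  decide +kernel

variable {G : Type*} [Group G] [Finite G]

theorem coatom_fortyThree [IsSimpleGroup G] (hG : ¬ IsMulCommutative G) {z : G}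
    (hz : Cfsg.IsOfJankoFourTypeAt z) (U : Sylow 43 G) : IsCoatom (normalizer ((U : Subgroup G) : Set G)) := by
  classical
  haveI : Fact (Nat.Prime 43) := ⟨by norm_num⟩
  haveI : Fact (Nat.Prime 7) := ⟨by norm_num⟩
  obtain ⟨e⟩ := Cfsg.Lib.JankoFour.Unique.iso_J4 hG ⟨z, hz⟩
  haveI := Cfsg.Lib.J4Cert.finite_J4
  have hmapc : ∀ H : Subgroup G, Nat.card (H.map e.toMonoidHom) = Nat.card H := fun H =>
    card_map_of_injective e.injective
  have hback : ∀ M : Subgroup Cfsg.Spor.J4, ∃ H : Subgroup G, H.map e.toMonoidHom = M := fun M =>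
    ⟨M.comap e.toMonoidHom, map_comap_eq_self_of_surjective e.surjective M⟩
  have hcard := card_G hG ⟨z, hz⟩
  -- the chosen subgroup of order 43
  obtain ⟨A, hA⟩ := hback (zpowers P43.gX)
  obtain ⟨V, hV⟩ := sylow_of_card hG ⟨z, hz⟩ (q := 43) (n := 1) (by decide +kernel) (by decide +kernel) A
    (by rw [← hmapc, hA, Nat.card_zpowers, P43.base_rels.1, pow_one])
  have hNmap : (normalizer ((V : Subgroup G) : Set G)).map e.toMonoidHom =
      normalizer (zpowers P43.gX : Set Cfsg.Spor.J4) := by
    rw [map_equiv_normalizer_eq, hV, hA]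
  have hNc : Nat.card (normalizer ((V : Subgroup G) : Set G)) = 602 :=
    ((norm_big hG hz).2.2.2.2 V).trans (by decide)
  -- the chosen subgroup of order 7
  obtain ⟨B, hB⟩ := hback (zpowers P43.gS)
  obtain ⟨W, hW⟩ := sylow_of_card hG ⟨z, hz⟩ (q := 7) (n := 1) (by decide +kernel) (by decide +kernel) B
    (by rw [← hmapc, hB, Nat.card_zpowers, P43.base_rels.2.2.1, pow_one])
  have hWmap : (normalizer ((W : Subgroup G) : Set G)).map e.toMonoidHom =
      normalizer (zpowers P43.gS : Set Cfsg.Spor.J4) := by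
    rw [map_equiv_normalizer_eq, hW, hB]
  have hN7 : Nat.card (normalizer (zpowers P43.gS : Set Cfsg.Spor.J4)) = 2520 := by
    rw [← hWmap, hmapc, norm_seven hG hz W]
    decide
  have hSN : P43.gS ∈ normalizer (zpowers P43.gX : Set Cfsg.Spor.J4) := pow_mem P43.base_rels.2.2.2.1 _
  have hWN : (W : Subgroup G) ≤ normalizer ((V : Subgroup G) : Set G) := by
    rw [← map_le_map_iff_of_injective (f := e.toMonoidHom) e.injective, hNmap, hW, hB, zpowers_le]
    exact hSN
  have hVc : IsCoatom (normalizer ((V : Subgroup G) : Set G)) := by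
    refine ⟨fun h => ?_, fun M hM => ?_⟩
    · rw [h, card_top, hcard] at hNc
      exact absurd hNc (by decide +kernel)
    by_contra hne
    have hle : normalizer (zpowers P43.gX : Set Cfsg.Spor.J4) ≤ M.map e.toMonoidHom := hNmap ▸ map_mono hM.le
    have hVM : (V : Subgroup G) ≤ M := le_normalizer.trans hM.le
    have hVpart : Nat.card (V : Subgroup G) = 43 :=
      (sylow_card hG ⟨z, hz⟩ (n := 1) (by decide +kernel) (by decide +kernel) V).trans (pow_one _)
    have hqM : 43 ∣ Nat.card M := (dvd_of_eq hVpart.symm).trans (card_dvd_of_le hVM)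
    have h7c : Nat.card ↥(M.map e.toMonoidHom ⊓ normalizer (zpowers P43.gS : Set Cfsg.Spor.J4)) = 14 ∧
        M.map e.toMonoidHom ⊓ normalizer (zpowers P43.gS : Set Cfsg.Spor.J4) ≤ zpowers P43.gV := by
      refine P43.inf_seven hN7 hle fun h => hne ?_
      rw [hmapc] at h
      exact top_of_primes hG hz M h.1 h.2 hqM
    obtain ⟨h7, h7le⟩ := h7c
    have h7' : Nat.card ↥(M ⊓ normalizer ((W : Subgroup G) : Set G)) = 14 := by
      rw [← hmapc, map_inf _ _ _ e.injective, hWmap, h7]
    have s7 : r7exact43.Sound (Nat.card M) := fun _ =>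
      ⟨14, by decide, by decide, dvd_refl _, by decide, h7' ▸ card_dvd_of_le inf_le_left, by
        rw [← h7', ← sylow_count M W (hWN.trans hM.le)]; exact mod_q M⟩
    have sfull : r43full.Sound (Nat.card M) :=
      sound_of_sylow (q := 43) V hVM hVpart (((norm_big hG hz).2.2.2.2 V).trans (by decide))
        (by rw [inf_eq_right.mpr hM.le, hNc]; exact dvd_refl _) (inf_norm_pos M V) (mod_q M)
    obtain ⟨k, hk, hMk⟩ := exists_index hM.le hNc (fk := fk43) (by simp [fk43]; norm_num)
      (by rw [hcard]; decide +kernel) (rows := [r43full, r7exact43, r11, r23 1, r31 1, r29, r37]) (by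
        intro r hr
        simp only [List.mem_cons, List.not_mem_nil, or_false] at hr
        rcases hr with rfl | rfl | rfl | rfl | rfl | rfl | rfl
        exacts [⟨by simp [r43full]; norm_num, sfull⟩, ⟨by simp [r7exact43]; norm_num, s7⟩,
          ⟨by simp [r11]; norm_num, sound_11 hG hz M (eleven_count hG hz M)⟩,
          ⟨by simp [r23]; norm_num, sound_23 hG hz M⟩, ⟨by simp [r31]; norm_num, sound_31 hG hz M⟩,
          ⟨by simp [r29]; norm_num, sound_29 hG hz M⟩, ⟨by simp [r37]; norm_num, sound_37 hG hz M⟩])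
    have hpart : ∀ q b : ℕ, q.Prime → q ≠ 7 → q.Coprime 14 → q ^ b ∣ Nat.card M →
        ¬ q ^ (b + 1) ∣ Nat.card M → q ^ b % 7 = 1 := by
      intro q b hq hq7 hqc h1 h2
      refine seven_part (M := M.map e.toMonoidHom) (s := P43.gS) (v := P43.gV) P43.base_rels.2.2.1
        ((Commute.refl _).pow_right _) (hle hSN) h7le h7 (fun h => ?_) hq hq7 hqc (by rwa [hmapc]) (by rwa [hmapc])
      rw [hmapc] at h
      exact absurd (h.trans (card_subgroup_dvd_card M)) (by rw [hcard]; decide +kernel)
    rw [survivors43] at hk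
    simp only [List.mem_cons, List.not_mem_nil, or_false] at hk
    rcases hk with rfl | rfl | rfl
    · exact hM.ne' (eq_of_index_one hM.le hNc hMk)
    · have h := hpart 3 2 (by norm_num) (by norm_num) (by norm_num) (by rw [hMk]; decide +kernel)
        (by rw [hMk]; decide +kernel)
      norm_num at h
    · have h := hpart 11 1 (by norm_num) (by norm_num) (by norm_num) (by rw [hMk]; decide +kernel)
        (by rw [hMk]; decide +kernel)
      norm_num at h

  obtain ⟨g, hg⟩ := MulAction.exists_smul_eq G V U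
  have hU : normalizer ((U : Subgroup G) : Set G) =
      (normalizer ((V : Subgroup G) : Set G)).map (MulAut.conj g).toMonoidHom := by
    rw [map_equiv_normalizer_eq, ← hg, Sylow.coe_subgroup_smul]
    rfl
  rw [hU]
  exact ((MulAut.conj g).mapSubgroup.isCoatom_iff _).mpr hVc

end Cfsg.Lib.J4Maximal
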